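import Cfsg.Agent.Coprime.InvariantNilpotent

/-!
A group of order `q²` acting coprimely and without common fixed points on `G`, each nontrivial element
having abelian fixed-point subgroup: basic facts, restriction, quotients, generation.
-/

namespace Cfsg.Agent.H42.AbelFix

open Subgroup
open Cfsg.Agent.Coprime (IsInvariant)

set_option linter.style.haveILetI false

/-- The configuration. -/
structure Cfg (q : ℕ) (A G : Type*) [Group A] [Group G] [MulDistribMulAction A G] : Prop where
  prime : q.Prime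
  card : Nat.card A = q ^ 2
  notCyclic : ¬ IsCyclic A
  coprime : (Nat.card A).Coprime (Nat.card G)
  fixed_one : ∀ g : G, (∀ a : A, a • g = g) → g = 1
  comm : ∀ a : A, a ≠ 1 → ∀ g h : G, a • g = g → a • h = h → g * h = h * g

variable {A G : Type*} [Group A] [Group G] [MulDistribMulAction A G] {q : ℕ}

/-- The fixed points of one element. -/
def fx (G : Type*) [Group G] [MulDistribMulAction A G] (a : A) : Subgroup G where
  carrier := {g | a • g = g}
  one_mem' := smul_one a
  mul_mem' := fun {x y} (hx : a • x = x) (hy : a • y = y) => by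
    show a • (x * y) = x * y
    rw [smul_mul', hx, hy]
  inv_mem' := fun {x} (hx : a • x = x) => by
    show a • x⁻¹ = x⁻¹
    rw [smul_inv', hx]

theorem mem_fx {a : A} {g : G} : g ∈ fx G a ↔ a • g = g := Iff.rfl

theorem fx_mono {a b : A} (h : b ∈ zpowers a) : fx G a ≤ fx G b := by
  intro g hg
  have : zpowers a ≤ MulAction.stabilizer A g := (zpowers_le).mpr hg
  exact this h

theorem inv_inf {L M : Subgroup G} (hL : IsInvariant A L) (hM : IsInvariant A M) :
    IsInvariant A (L ⊓ M) := fun a x hx => ⟨hL a x hx.1, hM a x hx.2⟩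

theorem inv_top : IsInvariant A (⊤ : Subgroup G) := fun _ _ _ => mem_top _

theorem inv_centralizer {L : Subgroup G} (hL : IsInvariant A L) :
    IsInvariant A (centralizer (L : Set G)) := fun a x hx => by
  refine mem_centralizer_iff.mpr fun y hy => ?_
  obtain ⟨z, rfl⟩ : ∃ z, a • z = y := ⟨a⁻¹ • y, smul_inv_smul a y⟩
  rw [← smul_mul', ← smul_mul', mem_centralizer_iff.mp hx z ((hL.smul_mem_iff a z).mp hy)]

theorem inv_sup {L M : Subgroup G} (hL : IsInvariant A L) (hM : IsInvariant A M) :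
    IsInvariant A (L ⊔ M) := hL.sup hM

/-- The action on an invariant subgroup. -/
@[reducible] def act (L : Subgroup G) (hL : IsInvariant A L) : MulDistribMulAction A L where
  smul a x := ⟨a • (x : G), hL a x x.2⟩
  one_smul x := Subtype.ext (one_smul A (x : G))
  mul_smul a b x := Subtype.ext (mul_smul a b (x : G))
  smul_mul a x y := Subtype.ext (smul_mul' a (x : G) y)
  smul_one a := Subtype.ext (smul_one a)

theorem inv_map_subtype {L : Subgroup G} (hL : IsInvariant A L) (K : Subgroup L) [K.Characteristic] :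
    IsInvariant A (K.map L.subtype) := by
  letI := act L hL
  rintro a _ ⟨x, hx, rfl⟩
  exact ⟨a • x, Coprime.isInvariant_of_characteristic K a x hx, rfl⟩

variable [Finite A] [Finite G]

theorem Cfg.smul_comm' (h : Cfg q A G) (a b : A) : a * b = b * a := by
  haveI := Fact.mk h.prime
  exact (IsPGroup.isMulCommutative_of_card_eq_prime_sq h.card).is_comm.comm a b

theorem Cfg.inv_fx (h : Cfg q A G) (a : A) : IsInvariant A (fx G a) := fun b x (hx : a • x = x) => by
  show a • b • x = b • x
  rw [← mul_smul, h.smul_comm', mul_smul, hx]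

theorem Cfg.isSolvable (h : Cfg q A G) : Group.IsSolvable A :=
  Group.isSolvable_of_comm h.smul_comm'

theorem Cfg.pow_q (h : Cfg q A G) (a : A) : a ^ q = 1 := by
  haveI := Fact.mk h.prime
  have hd : orderOf a ∣ q ^ 2 := h.card ▸ orderOf_dvd_natCard a
  obtain ⟨i, hi, ho⟩ := (Nat.dvd_prime_pow h.prime).mp hd
  rw [← orderOf_dvd_iff_pow_eq_one, ho]
  rcases Nat.lt_or_ge i 2 with h2 | h2
  · exact (pow_dvd_pow q (by omega : i ≤ 1)).trans (by simp)
  · exfalso
    refine h.notCyclic (isCyclic_of_orderOf_eq_card a ?_)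
    rw [ho, h.card, show i = 2 by omega]

theorem Cfg.card_zpowers (h : Cfg q A G) {a : A} (ha : a ≠ 1) : Nat.card (zpowers a) = q := by
  haveI := Fact.mk h.prime
  rw [Nat.card_zpowers, orderOf_eq_prime (h.pow_q a) ha]

theorem Cfg.zpowers_eq (h : Cfg q A G) {a b : A} (hb : b ≠ 1) (hm : b ∈ zpowers a) :
    zpowers b = zpowers a := by
  have ha : a ≠ 1 := by rintro rfl; simp at hm; exact hb hm
  refine eq_of_le_of_card_ge (zpowers_le.mpr hm) ?_
  rw [h.card_zpowers ha, h.card_zpowers hb]

theorem Cfg.fx_eq (h : Cfg q A G) {a b : A} (hb : b ≠ 1) (hm : b ∈ zpowers a) : fx G b = fx G a :=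
  le_antisymm (fx_mono (by rw [h.zpowers_eq hb hm]; exact mem_zpowers a)) (fx_mono hm)

theorem Cfg.notMem_symm (h : Cfg q A G) {a b : A} (ha : a ≠ 1) (hb : b ∉ zpowers a) :
    a ∉ zpowers b := fun hm => hb (by rw [h.zpowers_eq ha hm]; exact mem_zpowers b)

theorem Cfg.exists_notMem (h : Cfg q A G) (a : A) : ∃ b : A, b ∉ zpowers a := by
  by_contra! hall
  exact h.notCyclic ⟨⟨a, hall⟩⟩

theorem ne_one_of_notMem {a b : A} (h : b ∉ zpowers a) : b ≠ 1 := fun e => h (e ▸ one_mem _)

/-- Three lines: for two given lines there is a third. -/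
theorem Cfg.exists_third (h : Cfg q A G) (a b : A) : ∃ c : A, c ≠ 1 ∧ c ∉ zpowers a ∧ c ∉ zpowers b := by
  by_contra! hall
  by_cases hab : ∀ x : A, x ∈ zpowers a
  · exact h.notCyclic ⟨⟨a, hab⟩⟩
  by_cases hba : ∀ x : A, x ∈ zpowers b
  · exact h.notCyclic ⟨⟨b, hba⟩⟩
  push Not at hab hba
  obtain ⟨x, hx⟩ := hab
  obtain ⟨y, hy⟩ := hba
  have hxb : x ∈ zpowers b := hall x (fun e => hx (e ▸ one_mem _)) hx
  have hya : y ∈ zpowers a := by
    by_contra hc
    exact hy (hall y (fun e => hy (e ▸ one_mem _)) hc)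
  have hxy : x * y ∉ zpowers a := fun hc => hx (((zpowers a).mul_mem_cancel_right hya).mp hc)
  have hxy' : x * y ∉ zpowers b := fun hc => hy (((zpowers b).mul_mem_cancel_left hxb).mp hc)
  exact hxy' (hall _ (fun e => hxy (e ▸ one_mem _)) hxy)

theorem Cfg.fixed_two (h : Cfg q A G) {a b : A} (ha : a ≠ 1) (hb : b ∉ zpowers a) {g : G}
    (hga : a • g = g) (hgb : b • g = g) : g = 1 := by
  refine h.fixed_one g fun x => ?_
  set S := MulAction.stabilizer A g with hS
  have hle : zpowers a ≤ S := zpowers_le.mpr hga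
  obtain ⟨i, hi, hc⟩ := (Nat.dvd_prime_pow h.prime).mp (h.card ▸ card_subgroup_dvd_card S)
  have h1 : Nat.card (zpowers a) < Nat.card S := by
    refine lt_of_le_of_ne (card_le_of_le hle) fun e => hb ?_
    rw [eq_of_le_of_card_ge hle e.ge]
    exact hgb
  rw [h.card_zpowers ha, hc] at h1
  have h2 : 1 < i := by
    by_contra! h3
    have := Nat.pow_le_pow_right h.prime.pos h3
    rw [pow_one] at this
    omega
  have : S = ⊤ := eq_top_of_card_eq _ (by rw [hc, h.card, show i = 2 by omega])
  have hx : x ∈ S := this ▸ mem_top x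
  exact hx

theorem Cfg.fx_inf (h : Cfg q A G) {a b : A} (ha : a ≠ 1) (hb : b ∉ zpowers a) :
    fx G a ⊓ fx G b = ⊥ :=
  (eq_bot_iff_forall _).mpr fun _ hg => h.fixed_two ha hb hg.1 hg.2

/-- A coset of a subgroup invariant under `a`, fixed by `a`, contains a fixed point. -/
theorem Cfg.lift_fixed (h : Cfg q A G) (a : A) {N : Subgroup G} (hN : IsInvariant A N) {g : G}
    (hfix : g⁻¹ * a • g ∈ N) : ∃ c : G, a • c = c ∧ g⁻¹ * c ∈ N := by
  haveI := h.isSolvable
  have hcop : (Nat.card (zpowers a)).Coprime (Nat.card G) :=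
    h.coprime.coprime_dvd_left (card_subgroup_dvd_card _)
  have hall : ∀ x : zpowers a, g⁻¹ * x • g ∈ N := by
    rintro ⟨x, hx⟩
    show g⁻¹ * x • g ∈ N
    rw [← IsOfFinOrder.mem_powers_iff_mem_zpowers (isOfFinOrder_of_finite a)] at hx
    obtain ⟨n, rfl⟩ := hx
    induction n with
    | zero => simp
    | succ n ih =>
      have : g⁻¹ * a ^ (n + 1) • g = (g⁻¹ * a • g) * (a • (g⁻¹ * a ^ n • g)) := by
        rw [pow_succ', mul_smul, smul_mul', smul_inv']
        simp [mul_assoc]
      rw [this]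
      exact mul_mem hfix (hN a _ ih)
  obtain ⟨c, hc, hcN⟩ := Coprime.exists_fixed_mem_coset (A := zpowers a) hcop
    (Or.inl inferInstance) (N := N) (fun x y hy => hN x y hy) hall
  exact ⟨c, hc ⟨a, mem_zpowers a⟩, hcN⟩

theorem Cfg.restrict (h : Cfg q A G) (L : Subgroup G) (hL : IsInvariant A L) :
    letI := act L hL; Cfg q A L :=
  letI := act L hL
  { prime := h.prime
    card := h.card
    notCyclic := h.notCyclic
    coprime := h.coprime.coprime_dvd_right (card_subgroup_dvd_card L)
    fixed_one := fun g hg => Subtype.ext (h.fixed_one g fun a => congrArg Subtype.val (hg a))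
    comm := fun a ha g k hg hk =>
      Subtype.ext (h.comm a ha g k (congrArg Subtype.val hg) (congrArg Subtype.val hk)) }

/-- The action on the quotient by an invariant normal subgroup. -/
@[reducible] noncomputable def qAct (N : Subgroup G) [N.Normal] (hN : IsInvariant A N) :
    MulDistribMulAction A (G ⧸ N) := MulDistribMulAction.compHom _ (Coprime.quotHom N hN)

theorem Cfg.lift_quotient (h : Cfg q A G) (N : Subgroup G) [N.Normal] (hN : IsInvariant A N)
    (a : A) (x : G ⧸ N) :
    letI := qAct N hN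
    a • x = x → ∃ c : G, a • c = c ∧ (c : G ⧸ N) = x := by
  letI := qAct N hN
  intro hx
  obtain ⟨g, rfl⟩ := QuotientGroup.mk_surjective x
  have hg : g⁻¹ * a • g ∈ N := QuotientGroup.eq.mp hx.symm
  obtain ⟨c, hc, hcN⟩ := h.lift_fixed a hN hg
  exact ⟨c, hc, (QuotientGroup.eq.mpr hcN).symm⟩

theorem Cfg.quotient (h : Cfg q A G) (N : Subgroup G) [N.Normal] (hN : IsInvariant A N) :
    letI := qAct N hN; Cfg q A (G ⧸ N) := by
  letI := qAct N hN
  haveI := h.isSolvable
  refine ⟨h.prime, h.card, h.notCyclic, h.coprime.coprime_dvd_right (card_quotient_dvd_card N),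
    fun x hx => ?_, fun a ha x y hx hy => ?_⟩
  · obtain ⟨g, rfl⟩ := QuotientGroup.mk_surjective x
    obtain ⟨c, hc, hcN⟩ := Coprime.exists_fixed_mem_coset (A := A) h.coprime (Or.inl inferInstance)
      hN (g := g) fun a => QuotientGroup.eq.mp (hx a).symm
    rw [QuotientGroup.eq.mpr hcN, h.fixed_one c hc]
    rfl
  · obtain ⟨c, hc, rfl⟩ := h.lift_quotient N hN a x hx
    obtain ⟨d, hd, rfl⟩ := h.lift_quotient N hN a y hy
    exact congrArg (QuotientGroup.mk (s := N)) (h.comm a ha c d hc hd)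

/-- An invariant subgroup is generated by its fixed points of nontrivial elements. -/
theorem Cfg.le_of_pieces (h : Cfg q A G) {K W : Subgroup G} (hK : IsInvariant A K)
    (hW : ∀ a : A, a ≠ 1 → K ⊓ fx G a ≤ W) : K ≤ W := by
  letI := act K hK
  haveI : IsMulCommutative A := ⟨⟨h.smul_comm'⟩⟩
  have := Coprime.eq_top_of_fixed_le (A := A) (G := K)
    (h.coprime.coprime_dvd_right (card_subgroup_dvd_card K)) h.notCyclic (M := W.subgroupOf K)
    fun a ha g hg => hW a ha ⟨g.2, congrArg Subtype.val hg⟩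
  exact subgroupOf_eq_top.mp this

theorem Cfg.eq_bot_of_pieces (h : Cfg q A G) {K : Subgroup G} (hK : IsInvariant A K)
    (hW : ∀ a : A, a ≠ 1 → K ⊓ fx G a = ⊥) : K = ⊥ :=
  le_bot_iff.mp (h.le_of_pieces hK fun a ha => (hW a ha).le)

theorem Cfg.exists_piece (h : Cfg q A G) {K : Subgroup G} (hK : IsInvariant A K) (hne : K ≠ ⊥) :
    ∃ a : A, a ≠ 1 ∧ K ⊓ fx G a ≠ ⊥ := by
  by_contra! hall
  exact hne (h.eq_bot_of_pieces hK hall)

theorem Cfg.piece_comm (h : Cfg q A G) {a : A} (ha : a ≠ 1) {x y : G} (hx : x ∈ fx G a)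
    (hy : y ∈ fx G a) : x * y = y * x := h.comm a ha x y hx hy

end Cfsg.Agent.H42.AbelFix
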