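import Cfsg.Agent.H42.AbelFix.Span
import Cfsg.Agent.H42.TwoPrimes

/-!
Consequences of the span lemma: action of one line on an invariant subgroup; a faithful invariant group on
an abelian group is abelian; pieces of other primes centralize it.
-/

namespace Cfsg.Agent.H42.AbelFix

open Subgroup
open Cfsg.Agent.Coprime (IsInvariant)
open scoped commutatorElement

set_option linter.style.haveILetI false

variable {A G : Type*} [Group A] [Group G] [MulDistribMulAction A G] {q : ℕ} [Finite A] [Finite G]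

omit [Group A] [MulDistribMulAction A G] [Finite A] in
theorem eq_one_of_twist {z w u : G} {W Z : Subgroup G} (hz : z ∈ Z) (hu : u ∈ W) (hcomm : z * u = u * z)
    (htw : z * w * z⁻¹ = u * w) (hcop : (Nat.card Z).Coprime (Nat.card W)) : u = 1 := by
  have key : ∀ n : ℕ, z ^ n * w * (z ^ n)⁻¹ = u ^ n * w := by
    intro n
    induction n with
    | zero => simp
    | succ n ih =>
      have hc : z * u ^ n = u ^ n * z := (Commute.pow_right (hcomm : Commute z u) n).eq
      calc z ^ (n + 1) * w * (z ^ (n + 1))⁻¹ = z * (z ^ n * w * (z ^ n)⁻¹) * z⁻¹ := by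
            rw [pow_succ']; simp [mul_assoc]
        _ = u ^ n * (z * w * z⁻¹) := by rw [ih, ← mul_assoc, hc]; simp [mul_assoc]
        _ = u ^ (n + 1) * w := by rw [htw, pow_succ, mul_assoc]
  have h1 := key (Nat.card Z)
  have hzn : z ^ Nat.card Z = 1 := orderOf_dvd_iff_pow_eq_one.mp (Subgroup.orderOf_dvd_natCard Z hz)
  rw [hzn, inv_one, one_mul, mul_one, right_eq_mul] at h1
  have h2 : u ^ Nat.card W = 1 := orderOf_dvd_iff_pow_eq_one.mp (Subgroup.orderOf_dvd_natCard W hu)
  have : u ^ Nat.gcd (Nat.card Z) (Nat.card W) = 1 := pow_gcd_eq_one.mpr ⟨h1, h2⟩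
  rwa [Nat.Coprime.gcd_eq_one hcop, pow_one] at this

/-- A line acting on an invariant `r`-group, centralizing the fixed points of another line, is trivial. -/
theorem act_line (h : Cfg q A G) {X R : Subgroup G} {r : ℕ} [Fact r.Prime] (hX : IsInvariant A X)
    (hR : IsInvariant A R) (hRr : IsPGroup r R) (hcop : (Nat.card X).Coprime (Nat.card R))
    (hXR : X ≤ normalizer (R : Set G)) {b c : A} (hb : b ≠ 1) (hXb : X ≤ fx G b)
    (hc : c ∉ zpowers b) (hfix : ∀ x ∈ X, ∀ g ∈ R, c • g = g → x * g = g * x) :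
    X ≤ centralizer (R : Set G) := by
  set Φ : Subgroup G := (frattini R).map R.subtype with hΦ
  have hΦR : Φ ≤ R := map_subtype_le _
  have hΦi : IsInvariant A Φ := inv_map_subtype hR _
  refine Coprime.le_centralizer_of_frattini hXR (hcop.coprime_dvd_right (card_subgroup_dvd_card _)) ?_
  -- pass to the quotient of `R X` by the Frattini subgroup of `R`
  set L : Subgroup G := R ⊔ X with hL
  have hLi : IsInvariant A L := inv_sup hR hX
  have hLN : L ≤ normalizer (Φ : Set G) := (sup_le le_normalizer hXR).trans (normalizer_le_map_char _)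
  letI := act L hLi
  have hcL := h.restrict L hLi
  haveI hN : (Φ.subgroupOf L).Normal := normal_subgroupOf_of_le_normalizer hLN
  have hNi : IsInvariant A (Φ.subgroupOf L) := fun a x hx => hΦi a _ hx
  letI := qAct (Φ.subgroupOf L) hNi
  have hcQ := hcL.quotient (Φ.subgroupOf L) hNi
  set π := QuotientGroup.mk' (Φ.subgroupOf L) with hπ
  have hπa : ∀ (a : A) (x : L), a • π x = π (a • x) := fun _ _ => rfl
  set W := (R.subgroupOf L).map π with hW
  set Z := (X.subgroupOf L).map π with hZ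
  have hWi : IsInvariant A W := by
    rintro a _ ⟨x, hx, rfl⟩
    exact ⟨a • x, hR a _ hx, (hπa a x).symm⟩
  have hZi : IsInvariant A Z := by
    rintro a _ ⟨x, hx, rfl⟩
    exact ⟨a • x, hX a _ hx, (hπa a x).symm⟩
  have hWc : ∀ x ∈ W, ∀ y ∈ W, x * y = y * x := by
    rintro _ ⟨x, hx, rfl⟩ _ ⟨y, hy, rfl⟩
    rw [← map_mul, ← map_mul]
    refine QuotientGroup.eq.mpr ?_
    have h1 : (⁅(⟨(y : G), hy⟩ : R)⁻¹, (⟨(x : G), hx⟩ : R)⁻¹⁆ : R) ∈ frattini R :=
      PGroups.commutator_le_frattini hRr (commutator_mem_commutator (mem_top _) (mem_top _))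
    refine ⟨_, h1, ?_⟩
    simp [commutatorElement_def, mul_assoc]
  have hZW : Z ≤ normalizer (W : Set (L ⧸ Φ.subgroupOf L)) := by
    haveI : (R.subgroupOf L).Normal :=
      normal_subgroupOf_of_le_normalizer (sup_le le_normalizer hXR)
    haveI : W.Normal := (inferInstance : (R.subgroupOf L).Normal).map _ (QuotientGroup.mk'_surjective _)
    rw [normalizer_eq_top]
    exact le_top
  have hcop' : (Nat.card Z).Coprime (Nat.card W) := by
    refine (hcop.coprime_dvd_left ?_).coprime_dvd_right ?_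
    · exact (card_map_dvd _ _).trans (Nat.card_congr (subgroupOfEquivOfLe le_sup_right).toEquiv).dvd
    · exact (card_map_dvd _ _).trans (Nat.card_congr (subgroupOfEquivOfLe le_sup_left).toEquiv).dvd
  have hZb : Z ≤ fx (L ⧸ Φ.subgroupOf L) b := by
    rintro _ ⟨x, hx, rfl⟩
    show b • π x = π x
    rw [hπa]
    exact congrArg π (Subtype.ext (hXb hx))
  have hJ : ∀ z ∈ Z, ∀ w ∈ W, c • w = w → z * w * z⁻¹ ∈ centralizer (Z : Set (L ⧸ Φ.subgroupOf L)) := by
    rintro _ ⟨x, hx, rfl⟩ _ ⟨g, hg, rfl⟩ hw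
    have hw' : π (c • g) = π g := hw
    have hfixg : (g : G)⁻¹ * c • (g : G) ∈ Φ := mem_subgroupOf.mp (QuotientGroup.eq.mp hw'.symm)
    obtain ⟨c₀, hc₀, hgc⟩ := h.lift_fixed c hΦi hfixg
    have hc₀R : c₀ ∈ R := (R.mul_mem_cancel_left (inv_mem hg)).mp (hΦR hgc)
    have hc₀L : c₀ ∈ L := le_sup_left (a := R) hc₀R
    have e : π g = π ⟨c₀, hc₀L⟩ := QuotientGroup.eq.mpr hgc
    have hcom : ∀ x : L, (x : G) ∈ X → π x * π ⟨c₀, hc₀L⟩ = π ⟨c₀, hc₀L⟩ * π x := fun x hx => by
      rw [← map_mul, ← map_mul]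
      exact congrArg π (Subtype.ext (hfix _ hx c₀ hc₀R hc₀))
    rw [e, hcom x hx, mul_inv_cancel_right]
    refine mem_centralizer_iff.mpr ?_
    rintro _ ⟨y, hy, rfl⟩
    exact hcom y hy
  have key := span hcQ hWi hWc hZi hZW hcop' hb hc hZb hJ
  intro x hx g hg
  set x' : L := ⟨x, le_sup_right (a := R) hx⟩
  set g' : L := ⟨g, le_sup_left (a := R) hg⟩
  have hzm : π x' ∈ Z := ⟨x', hx, rfl⟩
  have hwm : π g' ∈ W := ⟨g', hg, rfl⟩
  have hu := key _ hzm _ hwm
  have huW : π x' * π g' * (π x')⁻¹ * (π g')⁻¹ ∈ W :=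
    mul_mem ((mem_normalizer_iff.mp (hZW hzm) _).mp hwm) (inv_mem hwm)
  have := eq_one_of_twist hzm huW ((mem_centralizer_iff.mp hu _ hzm)) (w := π g')
    (by rw [inv_mul_cancel_right]) hcop'
  rw [← map_inv, ← map_inv, ← map_mul, ← map_mul, ← map_mul] at this
  exact mem_subgroupOf.mp ((QuotientGroup.eq_one_iff (x' * g' * x'⁻¹ * g'⁻¹)).mp this)

/-- The commutators of `W` with `Z`. -/
def comW (W Z : Subgroup G) : Subgroup G :=
  closure {x | ∃ w ∈ W, ∃ z ∈ Z, z * w * z⁻¹ * w⁻¹ = x}

omit [Group A] [MulDistribMulAction A G] [Finite A] [Finite G] in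
theorem comW_le {W Z : Subgroup G} (h : Z ≤ normalizer (W : Set G)) : comW W Z ≤ W := by
  rw [comW, closure_le]
  rintro _ ⟨w, hw, z, hz, rfl⟩
  exact mul_mem ((mem_normalizer_iff.mp (h hz) w).mp hw) (inv_mem hw)

omit [Group A] [MulDistribMulAction A G] [Finite A] [Finite G] in
theorem mem_comW {W Z : Subgroup G} {w z : G} (hw : w ∈ W) (hz : z ∈ Z) :
    z * w * z⁻¹ * w⁻¹ ∈ comW W Z := subset_closure ⟨w, hw, z, hz, rfl⟩

omit [Finite A] [Finite G] in
theorem inv_comW {W Z : Subgroup G} (hW : IsInvariant A W) (hZ : IsInvariant A Z) :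
    IsInvariant A (comW W Z) := fun a x hx => by
  have hle : comW W Z ≤ (comW W Z).comap (MulDistribMulAction.toMulAut A G a).toMonoidHom := by
    refine (closure_le _).mpr ?_
    rintro _ ⟨w, hw, z, hz, rfl⟩
    show a • (z * w * z⁻¹ * w⁻¹) ∈ comW W Z
    rw [smul_mul', smul_mul', smul_mul', smul_inv', smul_inv']
    exact mem_comW (hW a w hw) (hZ a z hz)
  exact hle hx

omit [Group A] [MulDistribMulAction A G] [Finite A] [Finite G] in
theorem normalizes_comW {W Z : Subgroup G} {y : G} (hW : y ∈ normalizer (W : Set G))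
    (hZ : y ∈ normalizer (Z : Set G)) : y ∈ normalizer (comW W Z : Set G) := by
  have key : ∀ y, y ∈ normalizer (W : Set G) → y ∈ normalizer (Z : Set G) → ∀ x ∈ comW W Z,
      y * x * y⁻¹ ∈ comW W Z := by
    intro y hW hZ x hx
    have hle : comW W Z ≤ (comW W Z).comap (MulAut.conj y).toMonoidHom := by
      refine (closure_le _).mpr ?_
      rintro _ ⟨w, hw, z, hz, rfl⟩
      show y * (z * w * z⁻¹ * w⁻¹) * y⁻¹ ∈ comW W Z
      have : y * (z * w * z⁻¹ * w⁻¹) * y⁻¹ =
          (y * z * y⁻¹) * (y * w * y⁻¹) * (y * z * y⁻¹)⁻¹ * (y * w * y⁻¹)⁻¹ := by simp [mul_assoc]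
      rw [this]
      exact mem_comW ((mem_normalizer_iff.mp hW w).mp hw) ((mem_normalizer_iff.mp hZ z).mp hz)
    exact hle hx
  rw [mem_normalizer_iff]
  refine fun x => ⟨key y hW hZ x, fun hx => ?_⟩
  have := key y⁻¹ (inv_mem hW) (inv_mem hZ) _ hx
  simpa [mul_assoc] using this

/-- A faithful invariant nilpotent group on an abelian group of coprime order is abelian. -/
theorem comm_of_faithful (h : Cfg q A G) {W V : Subgroup G} (hW : IsInvariant A W)
    (hWc : ∀ x ∈ W, ∀ y ∈ W, x * y = y * x) (hV : IsInvariant A V) (hnil : Group.IsNilpotent V)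
    (hVW : V ≤ normalizer (W : Set G)) (hcop : (Nat.card V).Coprime (Nat.card W))
    (hf : ∀ v ∈ V, (∀ w ∈ W, v * w = w * v) → v = 1) : ∀ x ∈ V, ∀ y ∈ V, x * y = y * x := by
  by_contra hne
  set Z₀ := (commutator V).map V.subtype ⊓ centralizer (V : Set G) with hZ₀
  have hZ₀i : IsInvariant A Z₀ := inv_inf (inv_map_subtype hV _) (inv_centralizer hV)
  have hcne : commutator V ≠ ⊥ := by
    intro hb
    refine hne fun x hx y hy => ?_
    have h1 : ⁅(⟨x, hx⟩ : V), (⟨y, hy⟩ : V)⁆ = 1 := by
      rw [← mem_bot, ← hb]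
      exact commutator_mem_commutator (mem_top _) (mem_top _)
    exact congrArg Subtype.val (commutatorElement_eq_one_iff_mul_comm.mp h1)
  haveI := hnil
  obtain ⟨z, hz, hz1⟩ := (bot_or_exists_ne_one _).resolve_left (H24.inf_center_ne_bot _ hcne)
  have hZ₀ne : Z₀ ≠ ⊥ := fun hb => hz1 (by
    have : (z : G) ∈ Z₀ := ⟨mem_map_of_mem _ hz.1, mem_centralizer_iff.mpr fun v hv =>
      congrArg Subtype.val (mem_center_iff.mp hz.2 ⟨v, hv⟩)⟩
    rw [hb, mem_bot] at this
    exact Subtype.ext this)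
  obtain ⟨c, hc, hcne'⟩ := h.exists_piece hZ₀i hZ₀ne
  set Z₁ := Z₀ ⊓ fx G c with hZ₁
  have hZ₁V : Z₁ ≤ V := inf_le_left.trans (inf_le_left.trans (map_subtype_le _))
  have hZ₁i : IsInvariant A Z₁ := inv_inf hZ₀i (h.inv_fx c)
  set E := V ⊓ centralizer (comW W Z₁ : Set G) with hE
  -- the other lines centralize `[W, Z₁]`
  have hother : ∀ d : A, d ∉ zpowers c → V ⊓ fx G d ≤ E := by
    intro d hd y hy
    refine ⟨hy.1, ?_⟩
    have hsp := span h hW hWc hZ₁i (hZ₁V.trans hVW) (hcop.coprime_dvd_left (card_dvd_of_le hZ₁V)) hc hd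
      inf_le_right (J := centralizer ({y} : Set G)) (by
        intro z hz w hw hfix
        rw [mem_centralizer_singleton_iff]
        have h1 : Commute z y := (mem_centralizer_iff.mp hz.1.2 y hy.1).symm
        have h2 : y * w = w * y := h.piece_comm (ne_one_of_notMem hd) hy.2 hfix
        exact ((Commute.mul_left (Commute.mul_left (h1 : Commute z y) (h2.symm : Commute w y))
          ((h1 : Commute z y).inv_left))).eq)
    have hle : comW W Z₁ ≤ centralizer ({y} : Set G) := by
      refine (closure_le _).mpr ?_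
      rintro _ ⟨w, hw, z, hz, rfl⟩
      exact hsp z hz w hw
    exact mem_centralizer_iff.mpr fun u hu => mem_centralizer_singleton_iff.mp (hle hu)
  have hEn : V ≤ normalizer (E : Set G) := by
    intro v hv
    have hvZ : v ∈ normalizer (Z₁ : Set G) := centralizer_le_normalizer _
      (mem_centralizer_iff.mpr fun z hz => (mem_centralizer_iff.mp hz.1.2 v hv).symm)
    exact inf_normalizer_le_normalizer_inf
      ⟨le_normalizer hv, normalizer_le_centralizer' _ (normalizes_comW (hVW hv) hvZ)⟩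
  have hgen : V ≤ E ⊔ (V ⊓ fx G c) := h.le_of_pieces hV fun a ha => by
    by_cases hm : a ∈ zpowers c
    · rw [h.fx_eq ha hm]; exact le_sup_right
    · exact (hother a hm).trans le_sup_left
  -- the derived subgroup centralizes `[W, Z₁]`
  have hcomm : (commutator V).map V.subtype ≤ E := by
    rw [_root_.commutator_def, map_le_iff_le_comap, Subgroup.commutator_le]
    intro x _ y _
    obtain ⟨e₁, he₁, u₁, hu₁, hx⟩ :=
      (Coprime.mem_sup_iff (inf_le_left.trans hEn)).mp (hgen x.2)
    obtain ⟨e₂, he₂, u₂, hu₂, hy⟩ :=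
      (Coprime.mem_sup_iff (inf_le_left.trans hEn)).mp (hgen y.2)
    haveI : (E.subgroupOf V).Normal := normal_subgroupOf_of_le_normalizer hEn
    set π := QuotientGroup.mk' (E.subgroupOf V)
    have hx' : π x = π ⟨u₁, hu₁.1⟩ := (QuotientGroup.eq.mpr (mem_subgroupOf.mpr (by
      simp only [Subgroup.coe_mul, InvMemClass.coe_inv, ← hx, mul_inv_rev]
      have := (mem_normalizer_iff.mp (hEn (inv_mem hu₁.1)) e₁⁻¹).mp (inv_mem he₁)
      simpa [mul_assoc] using this)))
    have hy' : π y = π ⟨u₂, hu₂.1⟩ := (QuotientGroup.eq.mpr (mem_subgroupOf.mpr (by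
      simp only [Subgroup.coe_mul, InvMemClass.coe_inv, ← hy, mul_inv_rev]
      have := (mem_normalizer_iff.mp (hEn (inv_mem hu₂.1)) e₂⁻¹).mp (inv_mem he₂)
      simpa [mul_assoc] using this)))
    have h1 : π ⁅x, y⁆ = 1 := by
      rw [map_commutatorElement, hx', hy', ← map_commutatorElement]
      have : ⁅(⟨u₁, hu₁.1⟩ : V), (⟨u₂, hu₂.1⟩ : V)⁆ = 1 :=
        commutatorElement_eq_one_iff_mul_comm.mpr (Subtype.ext (h.piece_comm hc hu₁.2 hu₂.2))
      rw [this, map_one]
    exact mem_subgroupOf.mp ((QuotientGroup.eq_one_iff _).mp h1)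
  -- hence `Z₁` is trivial
  refine hcne' ((eq_bot_iff_forall _).mpr fun z hz => hf z (hZ₁V hz) fun w hw => ?_)
  have hzE : z ∈ centralizer (comW W Z₁ : Set G) := (hcomm hz.1.1).2
  have hu := mem_comW (W := W) (Z := Z₁) hw hz
  have := eq_one_of_twist (W := W) (Z := V) (hZ₁V hz) (comW_le (hZ₁V.trans hVW) hu)
    (mem_centralizer_iff.mp hzE _ hu).symm (w := w) (by rw [inv_mul_cancel_right]) hcop
  rwa [mul_inv_eq_one, mul_inv_eq_iff_eq_mul] at this

/-- A line of operators on a faithful abelian group of one further line and an abelian group centralizes. -/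
theorem piece_centralizes (h : Cfg q A G) {W S Y : Subgroup G} (hW : IsInvariant A W)
    (hWc : ∀ x ∈ W, ∀ y ∈ W, x * y = y * x) (hS : IsInvariant A S)
    (hSc : ∀ x ∈ S, ∀ y ∈ S, x * y = y * x) (hY : IsInvariant A Y)
    (hSW : S ≤ normalizer (W : Set G)) (hYW : Y ≤ normalizer (W : Set G))
    (hYS : Y ≤ normalizer (S : Set G)) (hcop : (Nat.card S).Coprime (Nat.card W))
    (hf : ∀ s ∈ S, (∀ w ∈ W, s * w = w * s) → s = 1) {a : A} (ha : a ≠ 1) (hYa : Y ≤ fx G a) :
    Y ≤ centralizer (S : Set G) := by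
  -- the commutator with the line `k` is killed by the other lines
  have hkill : ∀ k : A, k ≠ 1 → ∀ d : A, d ∉ zpowers k → ∀ s ∈ S ⊓ fx G d,
      s ∈ centralizer (comW W (S ⊓ fx G k) : Set G) := by
    intro k hk d hd s hs
    have hsp := span h hW hWc (inv_inf hS (h.inv_fx k)) (inf_le_left.trans hSW)
      (hcop.coprime_dvd_left (card_dvd_of_le inf_le_left)) hk hd inf_le_right
      (J := centralizer ({s} : Set G)) (by
        intro z hz w hw hfix
        rw [mem_centralizer_singleton_iff]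
        have h1 : Commute z s := hSc z hz.1 s hs.1
        have h2 : s * w = w * s := h.piece_comm (ne_one_of_notMem hd) hs.2 hfix
        exact ((Commute.mul_left (Commute.mul_left (h1 : Commute z s) (h2.symm : Commute w s))
          ((h1 : Commute z s).inv_left))).eq)
    have hle : comW W (S ⊓ fx G k) ≤ centralizer ({s} : Set G) := by
      refine (closure_le _).mpr ?_
      rintro _ ⟨w, hw, z, hz, rfl⟩
      exact hsp z hz w hw
    exact mem_centralizer_iff.mpr fun u hu => mem_centralizer_singleton_iff.mp (hle hu)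
  -- the kernels
  let U : A → Subgroup G := fun k =>
    if k ∈ zpowers a then comW W (S ⊓ fx G a) else comW W (S ⊓ fx G k) ⊓ fx G a
  have hUi : ∀ k, Coprime.IsInvariant A (U k) := by
    intro k
    show Coprime.IsInvariant A (if _ then _ else _)
    split
    · exact inv_comW hW (inv_inf hS (h.inv_fx a))
    · exact inv_inf (inv_comW hW (inv_inf hS (h.inv_fx k))) (h.inv_fx a)
  have hinj : ∀ k : A, k ≠ 1 → ∀ s ∈ S ⊓ fx G k, s ∈ centralizer (U k : Set G) → s = 1 := by
    intro k hk s hs hsc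
    refine hf s hs.1 fun w hw => ?_
    have hsW1 : ∀ u ∈ comW W (S ⊓ fx G k), s * u = u * s := by
      by_cases hm : k ∈ zpowers a
      · intro u hu
        have : U k = comW W (S ⊓ fx G k) := by
          show (if _ then _ else _) = _
          rw [if_pos hm, h.fx_eq hk hm]
        rw [this] at hsc
        exact (mem_centralizer_iff.mp hsc u hu).symm
      · have hUk : U k = comW W (S ⊓ fx G k) ⊓ fx G a := by
          show (if _ then _ else _) = _
          rw [if_neg hm]
        rw [hUk] at hsc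
        have hW1W : comW W (S ⊓ fx G k) ≤ W := comW_le (inf_le_left.trans hSW)
        have hsp := span h (inv_comW hW (inv_inf hS (h.inv_fx k)))
          (fun x hx y hy => hWc x (hW1W hx) y (hW1W hy)) (inv_inf hS (h.inv_fx k))
          (fun z hz => normalizes_comW (hSW hz.1) (centralizer_le_normalizer _
            (mem_centralizer_iff.mpr fun x hx => hSc x hx.1 z hz.1)))
          ((hcop.coprime_dvd_left (card_dvd_of_le inf_le_left)).coprime_dvd_right
            (card_dvd_of_le hW1W)) hk (h.notMem_symm ha hm) inf_le_right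
          (J := centralizer ({s} : Set G)) (by
            intro z hz w hw hfix
            rw [mem_centralizer_singleton_iff]
            have h1 : Commute z s := hSc z hz.1 s hs.1
            have h2 : w * s = s * w := mem_centralizer_iff.mp hsc w ⟨hw, hfix⟩
            exact ((Commute.mul_left (Commute.mul_left (h1 : Commute z s) (h2 : Commute w s))
              ((h1 : Commute z s).inv_left))).eq)
        intro u hu
        have h3 := mem_centralizer_singleton_iff.mp (hsp s hs u hu)
        have := eq_one_of_twist (W := W) (Z := S) hs.1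
          (mul_mem ((mem_normalizer_iff.mp (hSW hs.1) u).mp (hW1W hu)) (inv_mem (hW1W hu)))
          h3.symm (w := u) (by rw [inv_mul_cancel_right]) hcop
        rwa [mul_inv_eq_one, mul_inv_eq_iff_eq_mul] at this
    have := eq_one_of_twist (W := W) (Z := S) hs.1
      (mul_mem ((mem_normalizer_iff.mp (hSW hs.1) w).mp hw) (inv_mem hw))
      (hsW1 _ (mem_comW hw hs)) (w := w) (by rw [inv_mul_cancel_right]) hcop
    rwa [mul_inv_eq_one, mul_inv_eq_iff_eq_mul] at this
  have hkill' : ∀ k : A, k ≠ 1 → ∀ d : A, d ∉ zpowers k → S ⊓ fx G d ≤ centralizer (U k : Set G) := by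
    intro k hk d hd s hs
    have : U k ≤ comW W (S ⊓ fx G k) := by
      show (if _ then _ else _) ≤ _
      split
      · next hm => rw [h.fx_eq hk hm]
      · exact inf_le_left
    exact centralizer_le this (hkill k hk d hd s hs)
  -- `Y` normalizes each kernel
  have hYU : ∀ k, ∀ y ∈ Y, y ∈ normalizer (U k : Set G) := by
    intro k y hy
    show y ∈ normalizer ((if _ then _ else _ : Subgroup G) : Set G)
    split
    · refine normalizes_comW (hYW hy) (centralizer_le_normalizer _ (mem_centralizer_iff.mpr ?_))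
      exact fun x hx => h.piece_comm ha hx.2 (hYa hy)
    · exact centralizer_le_normalizer _ (mem_centralizer_iff.mpr fun x hx =>
        h.piece_comm ha hx.2 (hYa hy))
  -- `Y` acts on each line
  have hline : ∀ c : A, c ∉ zpowers a → ∀ y ∈ Y, ∀ s ∈ S ⊓ fx G c, y * s * y⁻¹ ∈ fx G c := by
    intro c hc y hy s hs
    set E := S ⊓ ⨅ k : {k : A // k ≠ 1 ∧ k ∉ zpowers c}, centralizer (U k.1 : Set G) with hE
    have hEi : IsInvariant A E := by
      intro b x hx
      refine ⟨hS b x hx.1, ?_⟩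
      exact Subgroup.mem_iInf.mpr fun k =>
        inv_centralizer (hUi k.1) b x (Subgroup.mem_iInf.mp hx.2 k)
    have hEc : E ≤ fx G c := h.le_of_pieces hEi fun j hj x hx => by
      by_cases hm : j ∈ zpowers c
      · rw [← h.fx_eq hj hm]; exact hx.2
      · rw [hinj j hj x ⟨hx.1.1, hx.2⟩ (Subgroup.mem_iInf.mp hx.1.2 ⟨j, hj, hm⟩)]
        exact one_mem _
    refine hEc ⟨(mem_normalizer_iff.mp (hYS hy) s).mp hs.1, ?_⟩
    refine Subgroup.mem_iInf.mpr ?_
    rintro ⟨k, hk, hkc⟩
    have hck : c ∉ zpowers k := fun hm => hkc (by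
      rw [h.zpowers_eq (ne_one_of_notMem hc) hm]; exact mem_zpowers k)
    exact (mem_normalizer_iff.mp (normalizer_le_centralizer' _ (hYU k y hy)) s).mp
      (hkill' k hk c hck hs)
  refine le_centralizer_iff.mp (h.le_of_pieces hS fun c hc s hs => ?_)
  by_cases hm : c ∈ zpowers a
  · refine mem_centralizer_iff.mpr fun y hy => h.piece_comm ha (hYa hy) ?_
    rw [← h.fx_eq hc hm]; exact hs.2
  have hconst : ∀ y ∈ Y, (c • y) * s * (c • y)⁻¹ = y * s * y⁻¹ := by
    intro y hy
    have hcs : c • s = s := hs.2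
    calc (c • y) * s * (c • y)⁻¹ = (c • y) * (c • s) * (c • y)⁻¹ := by rw [hcs]
      _ = c • (y * s * y⁻¹) := by rw [smul_mul', smul_mul', smul_inv']
      _ = _ := hline c hm y hy s hs
  let f : Y → Y := fun y => ⟨(y : G)⁻¹ * c • (y : G), mul_mem (inv_mem y.2) (hY c _ y.2)⟩
  have hf' : Function.Injective f := by
    intro x y hxy
    have h1 : (x : G)⁻¹ * c • (x : G) = (y : G)⁻¹ * c • (y : G) := congrArg Subtype.val hxy
    have h2 : c • ((x : G) * (y : G)⁻¹) = (x : G) * (y : G)⁻¹ := by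
      have e : c • (x : G) = (x : G) * ((y : G)⁻¹ * c • (y : G)) := by rw [← h1, mul_inv_cancel_left]
      rw [smul_mul', e, smul_inv', mul_assoc, mul_assoc, mul_inv_cancel, mul_one]
    have h3 := h.fixed_two ha hm (hYa (mul_mem x.2 (inv_mem y.2))) h2
    exact Subtype.ext (mul_inv_eq_one.mp h3)
  refine mem_centralizer_iff.mpr fun y hy => ?_
  obtain ⟨y', hy'⟩ := (Finite.injective_iff_surjective.mp hf') ⟨y, hy⟩
  obtain rfl : (y' : G)⁻¹ * c • (y' : G) = y := congrArg Subtype.val hy'
  show (y' : G)⁻¹ * c • (y' : G) * s = s * ((y' : G)⁻¹ * c • (y' : G))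
  have e := hconst y' y'.2
  calc (y' : G)⁻¹ * c • (y' : G) * s
      = (y' : G)⁻¹ * ((c • (y' : G)) * s * (c • (y' : G))⁻¹) * c • (y' : G) := by simp [mul_assoc]
    _ = _ := by rw [e]; simp [mul_assoc]

end Cfsg.Agent.H42.AbelFix
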