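import Cfsg.Agent.H42.AbelFix.PairPerm
import Cfsg.Agent.S0021

/-!
A group of order prime to `q` with an action of `E_{q^2}` with abelian fixed-point subgroups is solvable.
-/

namespace Cfsg.Agent.H42.AbelFix

open Subgroup
open scoped Pointwise
open Cfsg.Agent.Coprime (IsInvariant)

set_option linter.style.haveILetI false

universe w u

variable {A : Type w} {G : Type u} [Group A] [Group G] [MulDistribMulAction A G] [Finite A] [Finite G]
  {q : ℕ}

/-- Some line of another prime acts nontrivially on a `p`-subgroup. -/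
def Acted (A : Type*) {G : Type*} [Group A] [Group G] [MulDistribMulAction A G] (p : ℕ) : Prop :=
  ∃ s : ℕ, s.Prime ∧ s ≠ p ∧ ∃ (a : A) (X O : Subgroup G), a ≠ 1 ∧ IsPGroup s X ∧ IsInvariant A X ∧
    X ≤ fx G a ∧ IsPGroup p O ∧ IsInvariant A O ∧ X ≤ normalizer (O : Set G) ∧
    ¬ X ≤ centralizer (O : Set G)

/-- `P` permutes with every invariant Sylow subgroup. -/
def Univl (A : Type*) {G : Type*} [Group A] [Group G] [MulDistribMulAction A G] (P : Subgroup G) : Prop :=
  ∀ (r : ℕ) (R : Subgroup G), r.Prime → InvMax A r R → Perm P R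

omit [MulDistribMulAction A G] [Group A] [Finite A] in
theorem perm_self (P : Subgroup G) : Perm P P :=
  fun x hx y hy => ⟨x * y, mul_mem hx hy, 1, one_mem _, (mul_one _).symm⟩

theorem dvd_of_sylows (hM : Min q A G) {H N : Subgroup G} (hH : IsInvariant A H)
    (h : ∀ (s : ℕ) (S : Subgroup G), s.Prime → InvMax A s S → S ⊓ H ≤ N) : H ≤ N := by
  have hd : Nat.card H ∣ Nat.card (H ⊓ N : Subgroup G) := by
    rw [Nat.dvd_iff_prime_pow_dvd_dvd]
    intro s k hs hk
    haveI := Fact.mk hs
    obtain ⟨S, hS⟩ := exists_invMax hM.cfg s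
    obtain ⟨U, -, hU⟩ := exists_sylow_inter hM hS hH
    refine (U.pow_dvd_card_of_pow_dvd_card hk).trans ?_
    rw [← Subgroup.card_map_of_injective H.subtype_injective, hU]
    exact card_dvd_of_le (le_inf inf_le_right (h s _ hs hS))
  rw [← eq_of_le_of_card_ge (inf_le_left : H ⊓ N ≤ H) (Nat.le_of_dvd Nat.card_pos hd)]
  exact inf_le_right

theorem InvMax.ne_bot (hM : Min q A G) {p : ℕ} [Fact p.Prime] {P : Subgroup G} (hP : InvMax A p P)
    (hd : p ∣ Nat.card G) : P ≠ ⊥ := by
  obtain ⟨S, hS⟩ := exists_invMax hM.cfg p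
  intro e
  exact S.ne_bot_of_dvd_card hd (le_bot_iff.mp (e ▸ hP.le _ hS.isPGroup hS.invariant))

theorem InvMax.eq_bot {p : ℕ} [hp : Fact p.Prime] {P : Subgroup G} (hP : InvMax A p P)
    (hd : ¬ p ∣ Nat.card G) : P = ⊥ := by
  obtain ⟨k, hk⟩ := IsPGroup.iff_card.mp hP.isPGroup
  rcases Nat.eq_zero_or_pos k with rfl | hk'
  · exact Subgroup.card_eq_one.mp (by simpa using hk)
  · exact absurd ((hk ▸ dvd_pow_self p hk'.ne').trans (card_subgroup_dvd_card P)) hd

theorem no_complement (hM : Min q A G) {p : ℕ} [hp : Fact p.Prime] (hd : p ∣ Nat.card G)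
    (h : HasNormalPComplement p G) : False := by
  rcases hM.simp (pResidual p G) inferInstance (Coprime.isInvariant_of_characteristic _) with h1 | h1
  · have hG : IsPGroup p G := fun g => by
      obtain ⟨i, m, hm, him⟩ := Nat.exists_eq_pow_mul_and_not_dvd (orderOf_pos g).ne' p hp.out.ne_one
      refine ⟨i, ?_⟩
      have hmem : g ^ p ^ i ∈ pResidual p G := Fusion.mem_pResidual (by
        rw [orderOf_pow' _ (pow_ne_zero _ hp.out.ne_zero), him,
          Nat.gcd_eq_right (Dvd.intro m rfl), Nat.mul_div_cancel_left _ (pow_pos hp.out.pos _)]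
        exact (hp.out.coprime_iff_not_dvd.mpr hm).symm)
      rwa [h1, mem_bot] at hmem
    haveI := hG.isNilpotent
    exact hM.nsol inferInstance
  · have := Fusion.hasNormalPComplement_iff_pResidual.mp h
    rw [h1, Subgroup.card_top] at this
    exact this hd

theorem twoLines (hM : Min q A G) {p : ℕ} [hp : Fact p.Prime] (hd : p ∣ Nat.card G)
    {P : Subgroup G} (hP : InvMax A p P) : TwoLines A P := by
  intro a ha hle
  have hc := hM.cfg
  obtain ⟨S, hS⟩ := exists_invMax hc p
  have hSP : (S : Subgroup G) = P := le_antisymm (hP.le _ hS.isPGroup hS.invariant)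
    (hS.le _ hP.isPGroup hP.invariant)
  refine no_complement hM hd (Fusion.hasNormalPComplement_of_normalizer_le_centralizer S ?_)
  rw [hSP]
  refine hc.le_of_pieces hP.invariant.normalizer fun c hc' => ?_
  by_cases hm : c ∈ zpowers a
  · rw [hc.fx_eq hc' hm]
    exact fun x hx => mem_centralizer_iff.mpr fun y hy => hc.piece_comm ha (hle hy) hx.2
  set X := normalizer (P : Set G) ⊓ fx G c with hX
  have hXi : IsInvariant A X := inv_inf hP.invariant.normalizer (hc.inv_fx c)
  have hPX : P ⊓ X = ⊥ := le_bot_iff.mp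
    ((le_inf (inf_le_left.trans hle) (inf_le_right.trans inf_le_right)).trans (hc.fx_inf ha hm).le)
  obtain ⟨U, -, hU⟩ := exists_sylow_inter hM hP hXi
  rw [hPX, map_eq_bot_iff_of_injective _ X.subtype_injective] at hU
  have hpX : ¬ p ∣ Nat.card X := fun hdX => U.ne_bot_of_dvd_card hdX hU
  obtain ⟨k, hk, hkc, hka⟩ := hc.exists_third c a
  refine act_line hc hXi hP.invariant hP.isPGroup ?_ inf_le_left hc' inf_le_right hkc ?_
  · obtain ⟨i, hi⟩ := IsPGroup.iff_card.mp hP.isPGroup
    rw [hi]
    exact Nat.Coprime.pow_right i (hp.out.coprime_iff_not_dvd.mpr hpX).symm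
  · intro x _ g hg hgk
    rw [hc.fixed_two ha hka (hle hg) hgk, one_mul, mul_one]

theorem univl_of_acted (hM : Min q A G) {p : ℕ} [hp : Fact p.Prime] {P : Subgroup G}
    (hP : InvMax A p P) (h : Acted (G := G) A p) : Univl A P := by
  intro r R hr hR
  haveI := Fact.mk hr
  obtain ⟨s, hs, hsp, a, X, O, ha, hXs, hXi, hXa, hOp, hOi, hXO, hne⟩ := h
  haveI := Fact.mk hs
  by_cases hrp : p = r
  · subst hrp
    rw [le_antisymm (hP.le R hR.isPGroup hR.invariant) (hR.le P hP.isPGroup hP.invariant)]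
    exact perm_self P
  have hlines : ∀ c : A, c ∉ zpowers a → P ⊓ fx G c ≠ ⊥ := fun c hc e =>
    ne_bot_of_act hM.cfg hsp hXi hXs hOi hOp hXO ha hXa hne hc
      (le_bot_iff.mp (e ▸ inf_le_inf_right _ (hP.le O hOp hOi)))
  by_cases hrd : r ∣ Nat.card G
  swap
  · rw [hR.eq_bot hrd]
    intro x hx y hy
    exact ⟨y, hy, x, hx, by rw [mem_bot.mp hy, mul_one, one_mul]⟩
  have hR2 := twoLines hM hrd hR
  by_contra hnp
  refine hR2 a ha (hM.cfg.le_of_pieces hR.invariant fun c hc => ?_)
  by_cases hm : c ∈ zpowers a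
  · rw [hM.cfg.fx_eq hc hm]; exact inf_le_right
  by_cases hb : R ⊓ fx G c = ⊥
  · rw [hb]; exact bot_le
  have hPd : p ∣ Nat.card G := by
    by_contra h'
    exact hlines c hm (by rw [hP.eq_bot h', bot_inf_eq])
  exact absurd (perm_of_common_line hM hrp hP hR (twoLines hM hPd hP) hR2 hc (hlines c hm) hb) hnp

theorem part_le_core (hM : Min q A G) {p r : ℕ} [hp : Fact p.Prime] [hr : Fact r.Prime] (hpr : p ≠ r)
    {P R : Subgroup G} (hP : InvMax A p P) (hR : InvMax A r R) (hna : ¬ Acted (G := G) A r)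
    {K : Subgroup G} (hK : IsPR A p r K) : P ⊓ K ≤ core p K := by
  have hle : P ⊓ K ≤ centralizer (core r K : Set G) :=
    hM.cfg.le_of_pieces (inv_inf hP.invariant hK.invariant) fun a ha => by
      by_contra hne
      exact hna ⟨p, hp.out, hpr, a, P ⊓ K ⊓ fx G a, core r K, ha,
        hP.isPGroup.to_le (inf_le_left.trans inf_le_left),
        inv_inf (inv_inf hP.invariant hK.invariant) (hM.cfg.inv_fx a), inf_le_right, core_isPGroup K,
        inv_core hK.invariant, (inf_le_left.trans inf_le_right).trans (le_normalizer_core K), hne⟩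
  exact (le_inf le_rfl hle).trans (faithful hM hpr.symm hR hP hK.symm)

theorem exists_acted (hM : Min q A G) : ∃ p : ℕ, p.Prime ∧ Acted (G := G) A p := by
  by_contra! hna
  have hnil : ∀ H : Subgroup G, H ≠ ⊤ → IsInvariant A H → Group.IsNilpotent H := by
    intro H hH hHi
    refine ((Group.isNilpotent_of_finite_tfae (G := H)).out 0 3).mpr fun p hpF T => ?_
    haveI := hpF
    obtain ⟨S, hS⟩ := exists_invMax hM.cfg p
    obtain ⟨U, -, hU⟩ := exists_sylow_inter hM hS hHi
    have hUn : (U : Subgroup H).Normal := by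
      have : H ≤ normalizer (((S : Subgroup G) ⊓ H : Subgroup G) : Set G) := by
        refine dvd_of_sylows hM hHi fun s R hs hR => ?_
        haveI := Fact.mk hs
        by_cases hps : p = s
        · subst hps
          rw [le_antisymm (hS.le R hR.isPGroup hR.invariant) (hR.le _ hS.isPGroup hS.invariant)]
          exact le_normalizer
        obtain ⟨K, hK, h1, h2, -⟩ := exists_hall hM hS hR hHi hH
        have a1 : (S : Subgroup G) ⊓ H ≤ core p K := (le_inf inf_le_left h1).trans
          (part_le_core hM hps hS hR (fun h => hna s hs h) hK)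
        have a2 : R ⊓ H ≤ core s K := (le_inf inf_le_left h2).trans
          (part_le_core hM (Ne.symm hps) hR hS (fun h => hna p Fact.out h) hK.symm)
        exact ((a2.trans (cores_commute hM (Ne.symm hps) hR hS)).trans (centralizer_le a1)).trans
          (centralizer_le_normalizer _)
      rw [← hU] at this
      haveI : (((U : Subgroup H).map H.subtype).subgroupOf H).Normal :=
        normal_subgroupOf_of_le_normalizer this
      have e : ((U : Subgroup H).map H.subtype).subgroupOf H = (U : Subgroup H) :=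
        comap_map_eq_self_of_injective H.subtype_injective _
      rw [← e]; infer_instance
    obtain ⟨g, rfl⟩ := MulAction.exists_smul_eq H U T
    rw [Sylow.smul_eq_iff_mem_normalizer.mpr (show g ∈ normalizer ((U : Subgroup H) : Set H) by
      rw [normalizer_eq_top_iff.mpr hUn]; exact mem_top g)]
    exact hUn
  by_cases hodd : ∃ p : ℕ, p.Prime ∧ p ≠ 2 ∧ p ∣ Nat.card G
  · obtain ⟨p, hp, hp2, hd⟩ := hodd
    haveI := Fact.mk hp
    obtain ⟨S, hS⟩ := exists_invMax hM.cfg p
    have := (Coprime.isPGroup_of_simple_action hM.simp hp2 hd S hS.invariant fun H hH hHi _ =>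
      have := hnil H hH hHi; Fusion.hasNormalPComplement_of_isNilpotent).isNilpotent
    exact hM.nsol inferInstance
  · push Not at hodd
    have := (Coprime.isPGroup_of_forall_eq (G := G) (q := 2) fun p hp hd => by
      by_contra h2; exact hodd p hp h2 hd).isNilpotent
    exact hM.nsol inferInstance

omit [MulDistribMulAction A G] [Group A] [Finite A] in
theorem perm_sup {W V R : Subgroup G} (h1 : Perm W R) (h2 : Perm V R) : Perm (W ⊔ V) R := by
  intro x hx
  rw [Subgroup.sup_eq_closure, ← Subgroup.mem_toSubmonoid, Subgroup.closure_toSubmonoid_of_finite] at hx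
  induction hx using Submonoid.closure_induction with
  | mem x hx =>
    intro y hy
    rcases hx with hx | hx
    · obtain ⟨y', hy', x', hx', e⟩ := h1 x hx y hy
      exact ⟨y', hy', x', mem_sup_left hx', e⟩
    · obtain ⟨y', hy', x', hx', e⟩ := h2 x hx y hy
      exact ⟨y', hy', x', mem_sup_right hx', e⟩
  | one => intro y hy; exact ⟨y, hy, 1, one_mem _, by simp⟩
  | mul x z _ _ hx hz =>
    intro y hy
    obtain ⟨y', hy', z', hz', e⟩ := hz y hy
    obtain ⟨y'', hy'', x', hx', e'⟩ := hx y' hy'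
    exact ⟨y'', hy'', x' * z', mul_mem hx' hz', by rw [mul_assoc, e, ← mul_assoc, e', mul_assoc]⟩

omit [MulDistribMulAction A G] [Group A] [Finite A] in
theorem card_sup_of_perm {W V : Subgroup G} (h : Perm V W) (hd : W ⊓ V = ⊥) :
    Nat.card ↥(W ⊔ V) = Nat.card W * Nat.card V := by
  rw [← Nat.card_prod]
  refine (Nat.card_eq_of_bijective (fun x : W × V => (⟨(x.1 : G) * x.2,
    mul_mem (mem_sup_left x.1.2) (mem_sup_right x.2.2)⟩ : ↥(W ⊔ V))) ⟨?_, ?_⟩).symm
  · rintro ⟨⟨x, hx⟩, ⟨y, hy⟩⟩ ⟨⟨x', hx'⟩, ⟨y', hy'⟩⟩ he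
    have e : x * y = x' * y' := congrArg Subtype.val he
    have h1 : x'⁻¹ * x ∈ W ⊓ V := by
      refine ⟨W.mul_mem (W.inv_mem hx') hx, ?_⟩
      rw [show x'⁻¹ * x = y' * y⁻¹ by rw [eq_mul_inv_iff_mul_eq, mul_assoc, e, inv_mul_cancel_left]]
      exact V.mul_mem hy' (V.inv_mem hy)
    rw [hd, mem_bot, inv_mul_eq_one] at h1
    subst h1
    simp only [mul_right_inj] at e
    subst e
    rfl
  · rintro ⟨z, hz⟩
    suffices ∃ x ∈ W, ∃ y ∈ V, x * y = z by
      obtain ⟨x, hx, y, hy, rfl⟩ := this
      exact ⟨⟨⟨x, hx⟩, ⟨y, hy⟩⟩, rfl⟩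
    rw [Subgroup.sup_eq_closure, ← Subgroup.mem_toSubmonoid, Subgroup.closure_toSubmonoid_of_finite] at hz
    induction hz using Submonoid.closure_induction with
    | mem x hx =>
      rcases hx with hx | hx
      · exact ⟨x, hx, 1, one_mem _, mul_one x⟩
      · exact ⟨1, one_mem _, x, hx, one_mul x⟩
    | one => exact ⟨1, one_mem _, 1, one_mem _, one_mul 1⟩
    | mul a b _ _ ha hb =>
      obtain ⟨x, hx, y, hy, rfl⟩ := ha
      obtain ⟨x', hx', y', hy', rfl⟩ := hb
      obtain ⟨x'', hx'', y'', hy'', e⟩ := h y hy x' hx'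
      exact ⟨x * x'', W.mul_mem hx hx'', y'' * y', V.mul_mem hy'' hy', by
        rw [mul_assoc, mul_assoc x y, ← mul_assoc y x', e]; simp [mul_assoc]⟩

theorem Min.false (hM : Min q A G) : False := by
  classical
  have hex : ∀ p : Nat.Primes, ∃ P : Sylow (p : ℕ) G, InvMax A (p : ℕ) (P : Subgroup G) := fun p => by
    haveI := Fact.mk p.2
    exact exists_invMax hM.cfg p
  choose S hS using hex
  let S' : ℕ → Subgroup G := fun p => if hp : p.Prime then (S ⟨p, hp⟩ : Subgroup G) else ⊥
  have hS' : ∀ p : ℕ, p.Prime → InvMax A p (S' p) := fun p hp => by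
    show InvMax A p (if hp : p.Prime then (S ⟨p, hp⟩ : Subgroup G) else ⊥)
    rw [dif_pos hp]
    exact hS ⟨p, hp⟩
  set Ω := (Nat.card G).primeFactors.filter fun p => Univl A (S' p) with hΩ
  by_cases hall : Ω = (Nat.card G).primeFactors
  · refine hM.nsol (S0021.result S fun p s => ?_)
    have hperm : Perm (S p : Subgroup G) (S s : Subgroup G) := by
      haveI := Fact.mk p.2
      by_cases hd : (p : ℕ) ∣ Nat.card G
      · have hm : (p : ℕ) ∈ Ω := by rw [hall, Nat.mem_primeFactors]; exact ⟨p.2, hd, Nat.card_pos.ne'⟩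
        have h1 := (Finset.mem_filter.mp hm).2
        have e : S' (p : ℕ) = (S p : Subgroup G) := dif_pos p.2
        rw [e] at h1
        exact h1 s _ s.2 (hS s)
      · rw [(hS p).eq_bot hd]
        intro x hx y hy
        exact ⟨y, hy, 1, one_mem _, by rw [mem_bot.mp hx, one_mul, mul_one]⟩
    have key : ∀ {U V : Subgroup G}, Perm U V → (U : Set G) * (V : Set G) ⊆ (V : Set G) * (U : Set G) := by
      intro U V h z hz
      obtain ⟨x, hx, y, hy, rfl⟩ := Set.mem_mul.mp hz
      obtain ⟨y', hy', x', hx', e⟩ := h x hx y hy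
      exact Set.mem_mul.mpr ⟨y', hy', x', hx', e.symm⟩
    exact Set.Subset.antisymm (key hperm) (key hperm.symm)
  -- the universal primes give an invariant normal subgroup
  have hW : ∀ s : Finset ℕ, s ⊆ Ω → IsInvariant A (s.sup S') ∧
      (∀ r : ℕ, r.Prime → Perm (s.sup S') (S' r)) ∧
      ∀ l : ℕ, l.Prime → l ∣ Nat.card (s.sup S' : Subgroup G) → l ∈ s := by
    intro s
    induction s using Finset.induction_on with
    | empty =>
      intro _
      refine ⟨fun a x hx => by
          rw [Finset.sup_empty, mem_bot] at hx ⊢; rw [hx, smul_one], fun r _ x hx y hy => ?_, fun l hl hd => ?_⟩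
      · rw [Finset.sup_empty, mem_bot] at hx
        exact ⟨y, hy, 1, one_mem _, by rw [hx, one_mul, mul_one]⟩
      · rw [Finset.sup_empty, Subgroup.card_bot] at hd
        exact absurd (Nat.dvd_one.mp hd) hl.ne_one
    | insert p s hps ih =>
      intro hsub
      obtain ⟨hWi, hWp, hWc⟩ := ih ((Finset.subset_insert p s).trans hsub)
      obtain ⟨hpf, hpu⟩ := Finset.mem_filter.mp (hsub (Finset.mem_insert_self p s))
      have hp := Nat.prime_of_mem_primeFactors hpf
      haveI := Fact.mk hp
      have hPM := hS' p hp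
      rw [Finset.sup_insert, sup_comm]
      refine ⟨inv_sup hWi hPM.invariant, fun r hr => perm_sup (hWp r hr) (hpu r _ hr (hS' r hr)),
        fun l hl hd => ?_⟩
      have hdis : s.sup S' ⊓ S' p = ⊥ := by
        refine Coprime.inf_eq_bot (Nat.coprime_of_dvd fun l hl h1 h2 => ?_)
        obtain ⟨k, hk⟩ := IsPGroup.iff_card.mp hPM.isPGroup
        rw [hk] at h2
        exact hps ((Nat.prime_dvd_prime_iff_eq hl hp).mp (hl.dvd_of_dvd_pow h2) ▸ hWc l hl h1)
      rw [card_sup_of_perm (hWp p hp).symm hdis, hl.dvd_mul] at hd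
      rw [Finset.mem_insert]
      rcases hd with hd | hd
      · exact Or.inr (hWc l hl hd)
      · obtain ⟨k, hk⟩ := IsPGroup.iff_card.mp hPM.isPGroup
        rw [hk] at hd
        exact Or.inl ((Nat.prime_dvd_prime_iff_eq hl hp).mp (hl.dvd_of_dvd_pow hd))
  obtain ⟨hWi, -, hWc⟩ := hW Ω subset_rfl
  obtain ⟨p, hp, hact⟩ := exists_acted hM
  haveI := Fact.mk hp
  have hpd : p ∣ Nat.card G := by
    obtain ⟨s, -, -, a, X, O, -, -, -, -, hOp, hOi, -, hne⟩ := hact
    by_contra hd
    refine hne ?_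
    have hPb := (hS' p hp).eq_bot hd
    have hOb : O ≤ ⊥ := ((hS' p hp).le O hOp hOi).trans hPb.le
    rw [le_bot_iff.mp hOb]
    exact fun x _ => mem_centralizer_iff.mpr fun y hy => by
      rw [mem_bot.mp hy, one_mul, mul_one]
  have hpΩ : p ∈ Ω := Finset.mem_filter.mpr
    ⟨Nat.mem_primeFactors.mpr ⟨hp, hpd, Nat.card_pos.ne'⟩, univl_of_acted hM (hS' p hp) hact⟩
  set W := Ω.sup S' with hWdef
  have hne : W ≠ ⊥ := fun e => (hS' p hp).ne_bot hM hpd
    (le_bot_iff.mp (e ▸ Finset.le_sup (f := S') hpΩ))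
  have hnt : W ≠ ⊤ := by
    intro e
    refine hall (Finset.Subset.antisymm (Finset.filter_subset _ _) fun l hl => ?_)
    obtain ⟨h1, h2, -⟩ := Nat.mem_primeFactors.mp hl
    exact hWc l h1 (by rw [e, card_top]; exact h2)
  have hn : W.Normal := by
    rw [← normalizer_eq_top_iff, eq_top_iff]
    refine dvd_of_sylows hM inv_top fun r R hr hR => inf_le_left.trans ?_
    haveI := Fact.mk hr
    have hRe : R = S' r :=
      le_antisymm ((hS' r hr).le R hR.isPGroup hR.invariant) (hR.le _ (hS' r hr).isPGroup (hS' r hr).invariant)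
    subst hRe
    by_cases hrΩ : r ∈ Ω
    · exact (Finset.le_sup (f := S') hrΩ).trans le_normalizer
    by_cases hrd : r ∣ Nat.card G
    swap
    · rw [hR.eq_bot hrd]; exact bot_le
    have hna : ¬ Acted (G := G) A r := fun h => hrΩ (Finset.mem_filter.mpr
      ⟨Nat.mem_primeFactors.mpr ⟨hr, hrd, Nat.card_pos.ne'⟩, univl_of_acted hM hR h⟩)
    have key : ∀ l ∈ Ω, S' r ≤ normalizer (S' l : Set G) := by
      intro l hl
      obtain ⟨hlf, hlu⟩ := Finset.mem_filter.mp hl
      have hlp := Nat.prime_of_mem_primeFactors hlf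
      haveI := Fact.mk hlp
      have hlr : l ≠ r := fun e => hrΩ (e ▸ hl)
      have hPL := hS' l hlp
      have hdis : S' r ⊓ S' l = ⊥ := inf_eq_bot_of_pGroup hlr.symm hR.isPGroup hPL.isPGroup
      have hK : IsPR A l r (S' r ⊔ S' l) := by
        refine ⟨inv_sup hR.invariant hPL.invariant, fun t ht hd => ?_⟩
        rw [card_sup_of_perm (hlu r _ hr hR) hdis, ht.dvd_mul] at hd
        obtain ⟨k, hk⟩ := IsPGroup.iff_card.mp hR.isPGroup
        obtain ⟨j, hj⟩ := IsPGroup.iff_card.mp hPL.isPGroup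
        rw [hk, hj] at hd
        rcases hd with hd | hd
        · exact Or.inr ((Nat.prime_dvd_prime_iff_eq ht hr).mp (ht.dvd_of_dvd_pow hd))
        · exact Or.inl ((Nat.prime_dvd_prime_iff_eq ht hlp).mp (ht.dvd_of_dvd_pow hd))
      have h1 := part_le_core hM hlr hPL hR hna hK
      have h2 : core l (S' r ⊔ S' l) = S' l :=
        le_antisymm (hPL.le _ (core_isPGroup _) (inv_core hK.invariant))
          ((le_inf le_rfl le_sup_right).trans h1)
      have := le_sup_left.trans (le_normalizer_core (p := l) (S' r ⊔ S' l))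
      rwa [h2] at this
    rw [hWdef]
    have : ∀ s : Finset ℕ, s ⊆ Ω → S' r ≤ normalizer ((s.sup S' : Subgroup G) : Set G) := by
      intro s
      induction s using Finset.induction_on with
      | empty => intro _; rw [Finset.sup_empty, normalizer_eq_top]; exact le_top
      | insert l s _ ih =>
        intro hsub
        rw [Finset.sup_insert]
        exact (le_inf (key l (hsub (Finset.mem_insert_self l s)))
          (ih ((Finset.subset_insert l s).trans hsub))).trans
          (normalizer_inf_normalizer_le_normalizer_sup _ _)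
    exact this Ω subset_rfl
  rcases hM.simp W hn hWi with h | h
  · exact hne h
  · exact hnt h

omit [Finite A] [Finite G] in
theorem isCommutative_of_card (hq : q.Prime) (hA : Nat.card A = q ^ 2) : IsMulCommutative A := by
  haveI := Fact.mk hq
  exact IsPGroup.isMulCommutative_of_card_eq_prime_sq hA

theorem solvable_aux (hq : q.Prime) (hA : Nat.card A = q ^ 2) (hnc : ¬ IsCyclic A) :
    ∀ (n : ℕ) (G : Type u) [Group G] [Finite G] [MulDistribMulAction A G], Nat.card G = n →
      (Nat.card A).Coprime (Nat.card G) →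
      (∀ a : A, a ≠ 1 → ∀ g h : G, a • g = g → a • h = h → g * h = h * g) → Group.IsSolvable G := by
  intro n
  induction n using Nat.strong_induction_on with
  | _ n ih => ?_
  intro G _ _ _ hn hcop hcomm
  haveI := isCommutative_of_card hq hA
  haveI : Group.IsSolvable A := Group.isSolvable_of_comm mul_comm'
  by_contra hnsol
  have hsub : ∀ H : Subgroup G, IsInvariant A H → H ≠ ⊤ → Group.IsSolvable H := by
    intro H hH hne
    letI := act H hH
    have hlt : Nat.card H < Nat.card G := lt_of_le_of_ne (Nat.le_of_dvd Nat.card_pos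
      (card_subgroup_dvd_card H)) fun e => hne (eq_top_of_card_eq H e)
    exact ih _ (hn ▸ hlt) H rfl (hcop.coprime_dvd_right (card_subgroup_dvd_card H))
      fun a ha g k hg hk => Subtype.ext (hcomm a ha g k (congrArg Subtype.val hg) (congrArg Subtype.val hk))
  have hsimp : ∀ N : Subgroup G, N.Normal → IsInvariant A N → N = ⊥ ∨ N = ⊤ := by
    intro N hN hNi
    by_contra! hc
    obtain ⟨hb, ht⟩ := hc
    letI := qAct N hNi
    have lift : ∀ a : A, ∀ x : G ⧸ N, a • x = x → ∃ c : G, a • c = c ∧ (c : G ⧸ N) = x := by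
      intro a x hx
      obtain ⟨g, rfl⟩ := QuotientGroup.mk_surjective x
      have hz : ∀ y : zpowers a, g⁻¹ * y • g ∈ N := by
        rintro ⟨y, hy⟩
        have hst : zpowers a ≤ MulAction.stabilizer A (g : G ⧸ N) := zpowers_le.mpr hx
        exact QuotientGroup.eq.mp (hst hy).symm
      obtain ⟨c, hc, hcN⟩ := Coprime.exists_fixed_mem_coset (A := zpowers a)
        (hcop.coprime_dvd_left (card_subgroup_dvd_card _)) (Or.inl inferInstance) (N := N)
        (fun y z hz => hNi y z hz) hz
      exact ⟨c, hc ⟨a, mem_zpowers a⟩, (QuotientGroup.eq.mpr hcN).symm⟩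
    have hQ : Group.IsSolvable (G ⧸ N) := by
      refine ih _ (hn ▸ Hall.card_quotient_lt N hb) (G ⧸ N) rfl
        (hcop.coprime_dvd_right (card_quotient_dvd_card N)) fun a ha x y hx hy => ?_
      obtain ⟨c, hc, rfl⟩ := lift a x hx
      obtain ⟨d, hd, rfl⟩ := lift a y hy
      exact congrArg (QuotientGroup.mk (s := N)) (hcomm a ha c d hc hd)
    haveI := hsub N hNi ht
    exact hnsol (Group.isSolvable_of_ker_le_range N.subtype (QuotientGroup.mk' N)
      (by rw [QuotientGroup.ker_mk', range_subtype]))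
  refine Min.false ⟨⟨hq, hA, hnc, hcop, fun g hg => ?_, hcomm⟩, hnsol, hsub, hsimp⟩
  have hcen : g ∈ center G := by
    rw [← centralizer_univ, ← coe_top, ← Coprime.eq_top_of_fixed_le hcop hnc
      (M := centralizer ({g} : Set G)) fun a ha x hx =>
        mem_centralizer_singleton_iff.mpr (hcomm a ha x g hx (hg a))]
    exact mem_centralizer_iff.mpr fun x hx => mem_centralizer_singleton_iff.mp hx
  rcases hsimp (center G) inferInstance (Coprime.isInvariant_of_characteristic _) with h | h
  · rwa [h, mem_bot] at hcen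
  · exact absurd (Group.isSolvable_of_comm fun a b => (mem_center_iff.mp (h.symm ▸ mem_top a) b).symm) hnsol

/-- The theorem. -/
theorem solvable {A G : Type*} [Group A] [Finite A] [Group G] [Finite G] [MulDistribMulAction A G] {q : ℕ}
    (hq : q.Prime) (hA : Nat.card A = q ^ 2) (hnc : ¬ IsCyclic A) (hcop : ¬ q ∣ Nat.card G)
    (h : ∀ a : A, a ≠ 1 → ∀ g k : G, a • g = g → a • k = k → g * k = k * g) : Group.IsSolvable G :=
  solvable_aux hq hA hnc _ G rfl
    (by rw [hA]; exact Nat.Coprime.pow_left 2 ((hq.coprime_iff_not_dvd).mpr hcop)) h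

end Cfsg.Agent.H42.AbelFix
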