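import Cfsg.Agent.H42.AbelFix.Sub
import Cfsg.Agent.H61.SylowControl

/-!
Two primes whose invariant Sylow subgroups share a line permute.
-/

namespace Cfsg.Agent.H42.AbelFix

open Subgroup
open Cfsg.Agent.Coprime (IsInvariant)

set_option linter.style.haveILetI false

variable {A G : Type*} [Group A] [Group G] [MulDistribMulAction A G] [Finite A] [Finite G]
  {q p r : ℕ} [hp : Fact p.Prime] [hr : Fact r.Prime]

/-- Not contained in a single line. -/
def TwoLines (A : Type*) {G : Type*} [Group A] [Group G] [MulDistribMulAction A G] (P : Subgroup G) : Prop :=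
  ∀ a : A, a ≠ 1 → ¬ P ≤ fx G a

/-- `Z(F)`-part: the centre of `O_p(H)`. -/
def zc {G : Type*} [Group G] (p : ℕ) (H : Subgroup G) : Subgroup G :=
  core p H ⊓ centralizer (core p H : Set G)

/-- Both cores are nontrivial. -/
def Mixed {G : Type*} [Group G] (p r : ℕ) (H : Subgroup G) : Prop := core p H ≠ ⊥ ∧ core r H ≠ ⊥

theorem Mixed.symm {H : Subgroup G} (h : Mixed p r H) : Mixed r p H := ⟨h.2, h.1⟩

omit [Finite A] [Finite G] hp hr in
theorem inv_zc {H : Subgroup G} (hH : IsInvariant A H) : IsInvariant A (zc p H) :=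
  inv_inf (inv_core hH) (inv_centralizer (inv_core hH))

theorem center_ne_bot_of_pGroup {X : Subgroup G} (hX : IsPGroup p X) (hne : X ≠ ⊥) :
    X ⊓ centralizer (X : Set G) ≠ ⊥ := by
  haveI : Nontrivial X := (Subgroup.nontrivial_iff_ne_bot X).mpr hne
  haveI := hX.center_nontrivial
  obtain ⟨z, hz1⟩ := exists_ne (1 : center X)
  intro hb
  have : ((z : X) : G) ∈ X ⊓ centralizer (X : Set G) :=
    ⟨(z : X).2, mem_centralizer_iff.mpr fun x hx =>
      congrArg Subtype.val (mem_center_iff.mp z.2 ⟨x, hx⟩)⟩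
  rw [hb, mem_bot] at this
  exact hz1 (Subtype.ext (Subtype.ext this))

omit [Finite A] [Finite G] hp hr in
theorem le_centralizer_symm {X Y : Subgroup G} (h : X ≤ centralizer (Y : Set G)) :
    Y ≤ centralizer (X : Set G) := le_centralizer_iff.mp h

omit [Finite A] [Finite G] hp hr in
theorem commute_of_norm {X Y : Subgroup G} (hd : X ⊓ Y = ⊥) {x y : G} (hx : x ∈ X) (hy : y ∈ Y)
    (h1 : x ∈ normalizer (Y : Set G)) (h2 : y ∈ normalizer (X : Set G)) : x * y = y * x := by
  have h : x * y * x⁻¹ * y⁻¹ ∈ X ⊓ Y := by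
    refine ⟨?_, Y.mul_mem ((mem_normalizer_iff.mp h1 y).mp hy) (Y.inv_mem hy)⟩
    have := X.mul_mem hx ((mem_normalizer_iff.mp h2 x⁻¹).mp (X.inv_mem hx))
    simpa [mul_assoc] using this
  rw [hd, mem_bot, mul_inv_eq_one, mul_inv_eq_iff_eq_mul] at h
  exact h

omit [Finite A] [Finite G] hp hr in
theorem perm_of_normalizes {P R : Subgroup G} (h : R ≤ normalizer (P : Set G)) : Perm P R :=
  fun x hx y hy => ⟨y, hy, y⁻¹ * x * y, by
    simpa using (mem_normalizer_iff.mp (inv_mem (h hy)) x).mp hx, by simp [mul_assoc]⟩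

omit hp hr in
/-- A line piece acting on an invariant `r`-group: every other line moves. -/
theorem lines_of_act (h : Cfg q A G) {X R : Subgroup G} {p r : ℕ} [Fact p.Prime] [Fact r.Prime]
    (hpr : p ≠ r) (hX : IsInvariant A X) (hXp : IsPGroup p X) (hR : IsInvariant A R) (hRr : IsPGroup r R)
    (hXR : X ≤ normalizer (R : Set G)) {b : A} (hb : b ≠ 1) (hXb : X ≤ fx G b)
    (hne : ¬ X ≤ centralizer (R : Set G)) {c : A} (hc : c ∉ zpowers b) :
    ¬ R ⊓ fx G c ≤ centralizer (X : Set G) := fun hle =>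
  hne (act_line h hX hR hRr (IsPGroup.coprime_card_of_ne p r hpr _ _ hXp hRr) hXR hb hXb hc
    fun x hx g hg hg' => mem_centralizer_iff.mp (hle ⟨hg, hg'⟩) x hx)

omit hp hr in
theorem ne_bot_of_act (h : Cfg q A G) {X R : Subgroup G} {p r : ℕ} [Fact p.Prime] [Fact r.Prime]
    (hpr : p ≠ r) (hX : IsInvariant A X) (hXp : IsPGroup p X) (hR : IsInvariant A R) (hRr : IsPGroup r R)
    (hXR : X ≤ normalizer (R : Set G)) {b : A} (hb : b ≠ 1) (hXb : X ≤ fx G b)
    (hne : ¬ X ≤ centralizer (R : Set G)) {c : A} (hc : c ∉ zpowers b) : R ⊓ fx G c ≠ ⊥ :=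
  fun e => lines_of_act h hpr hX hXp hR hRr hXR hb hXb hne hc (e ▸ bot_le)

/-- A subgroup containing all lines but one, extended by that line. -/
theorem extend (h : Cfg q A G) {P : Subgroup G} (hPp : IsPGroup p P) (hP : IsInvariant A P) {d : A}
    (hd : d ≠ 1) : ∀ Q : Subgroup G, IsInvariant A Q → Q ≤ P →
      (∀ c : A, c ∉ zpowers d → P ⊓ fx G c ≤ Q) →
      ∀ x ∈ P, ∃ u ∈ Q, ∃ v ∈ P ⊓ fx G d, x = u * v := by
  intro Q
  induction Q using WellFoundedGT.induction with
  | _ Q ih =>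
  intro hQ hQP hc x hx
  rcases hQP.eq_or_lt with rfl | hlt
  · exact ⟨x, hx, 1, one_mem _, (mul_one x).symm⟩
  set N := P ⊓ normalizer (Q : Set G) with hN
  have hNi : IsInvariant A N := inv_inf hP hQ.normalizer
  have hgt := H61.exists_normalizer_gt hPp hlt
  obtain ⟨u₁, hu₁, v₁, hv₁, rfl⟩ := ih N hgt hNi inf_le_left
    (fun c hc' => le_inf inf_le_left ((hc c hc').trans le_normalizer)) x hx
  -- `N = Q · N_d`
  set D := Q ⊔ (N ⊓ fx G d) with hD
  have hND : N ≤ D := h.le_of_pieces hNi fun a ha => by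
    by_cases hm : a ∈ zpowers d
    · rw [h.fx_eq ha hm]; exact le_sup_right
    · exact ((inf_le_inf_right _ inf_le_left).trans (hc a hm)).trans le_sup_left
  obtain ⟨u₂, hu₂, v₂, hv₂, e⟩ :=
    (Coprime.mem_sup_iff ((inf_le_left : N ⊓ fx G d ≤ N).trans inf_le_right)).mp (hND hu₁)
  refine ⟨u₂, hu₂, v₂ * v₁, ⟨P.mul_mem hv₂.1.1 hv₁.1, (fx G d).mul_mem hv₂.2 hv₁.2⟩, ?_⟩
  rw [← e, mul_assoc]

variable {P R : Subgroup G}

section Pair

variable (hM : Min q A G) (hpr : p ≠ r) (hP : InvMax A p P) (hR : InvMax A r R)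

include hM hpr hP hR

theorem perm_in {H : Subgroup G} (hH : IsPR A p r H) {x y : G} (hx : x ∈ H) (hy : y ∈ H) :
    ∃ y' ∈ R ⊓ H, ∃ x' ∈ P ⊓ H, x * y = y' * x' :=
  mem_mul hM hpr.symm hR hP hH.symm (H.mul_mem hx hy)

omit hpr in
theorem cent_ne_top {X : Subgroup G} (hne : X ≠ ⊥) : centralizer (X : Set G) ≠ ⊤ := by
  intro e
  rcases hM.simp (center G) inferInstance (Coprime.isInvariant_of_characteristic _) with h | h
  · exact hne (le_bot_iff.mp (h ▸ centralizer_eq_top_iff_subset.mp e))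
  · exact hM.nsol (Group.isSolvable_of_comm fun a b =>
      (mem_center_iff.mp (h.symm ▸ mem_top a) b).symm)

/-- A maximal subgroup containing the `{p,r}`-part of a centralizer. -/
theorem exists_cent {X : Subgroup G} (hX : IsInvariant A X) (hne : X ≠ ⊥) :
    ∃ K, IsMaxPR A p r K ∧ P ⊓ centralizer (X : Set G) ≤ K ∧ R ⊓ centralizer (X : Set G) ≤ K := by
  obtain ⟨H, hH, h1, h2, -⟩ :=
    exists_hall hM hP hR (inv_centralizer hX) (cent_ne_top hM hP hR hne)
  obtain ⟨K, hHK, hK⟩ := exists_maxPR hH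
  exact ⟨K, hK, h1.trans hHK, h2.trans hHK⟩

theorem exists_norm {X : Subgroup G} (hX : IsInvariant A X) (hne : X ≠ ⊥) (hs : Group.IsSolvable X) :
    ∃ K, IsMaxPR A p r K ∧ P ⊓ normalizer (X : Set G) ≤ K ∧ R ⊓ normalizer (X : Set G) ≤ K := by
  obtain ⟨H, hH, h1, h2, -⟩ := exists_hall hM hP hR hX.normalizer (hM.simple_normalizer hX hne hs)
  obtain ⟨K, hHK, hK⟩ := exists_maxPR hH
  exact ⟨K, hK, h1.trans hHK, h2.trans hHK⟩

/-- Maximal with trivial `r`-core: `P` is normal. -/
theorem charP {K : Subgroup G} (hK : IsMaxPR A p r K) (hb : core r K = ⊥) (hne : K ≠ ⊥) :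
    P ≤ K ∧ K ≤ normalizer (P : Set G) ∧ R ⊓ K ⊓ centralizer (P : Set G) = ⊥ := by
  set T := P ⊓ K with hT
  have hTp : IsPGroup p T := hP.isPGroup.to_le inf_le_left
  have hn : K ≤ normalizer (T : Set G) := by
    have := split_norm hM hpr hP hK.pr
    rwa [hb, sup_bot_eq] at this
  have hTc : T = core p K :=
    le_antisymm (le_core inf_le_right hTp hn) (core_le_max hP hK.pr.invariant)
  have hTne : T ≠ ⊥ := by
    rw [hTc]
    exact (core_ne_bot hM hK.pr hne).resolve_right (fun h => h hb)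
  have hTP : T = P := by
    by_contra hne'
    have hgt := H61.exists_normalizer_gt hP.isPGroup (lt_of_le_of_ne (inf_le_left : T ≤ P) hne')
    exact hgt.not_ge (le_inf inf_le_left
      (hK.norm_le hM hpr hP hR (inv_inf hP.invariant hK.pr.invariant) hTne
        (haveI := hTp.isNilpotent; inferInstance) hn).1)
  refine ⟨hTP ▸ inf_le_right, hTP ▸ hn, le_bot_iff.mp ?_⟩
  rw [← hb]
  refine le_trans ?_ (faithful hM hpr hP hR hK.pr)
  rw [← hTc, hTP]

theorem cores_commute {H : Subgroup G} : core p H ≤ centralizer (core r H : Set G) := fun x hx =>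
  mem_centralizer_iff.mpr fun y hy =>
    (commute_of_norm (inf_eq_bot_of_pGroup hpr (core_isPGroup H) (core_isPGroup H)) hx hy
      (le_normalizer_core H (core_le H hx)) (le_normalizer_core H (core_le H hy))).symm

omit hpr in
theorem norm_cent {H X : Subgroup G} (h : H ≤ normalizer (X : Set G)) :
    H ≤ normalizer (centralizer (X : Set G) : Set G) := h.trans (normalizer_le_centralizer' _)

/-- The basic propagation. -/
theorem propagate {H K A₀ : Subgroup G} (hH : IsPR A p r H) (hK : IsPR A p r K)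
    (hA : A₀ ≤ core p H) (hAK : A₀ ≤ K) (hcA : P ⊓ centralizer (A₀ : Set G) ≤ H) :
    core r H ⊓ K ≤ core r K := by
  set W := core r H ⊓ K with hW
  have hWr : IsPGroup r W := (core_isPGroup H).to_le inf_le_left
  have hWR : W ≤ R := inf_le_left.trans ((core_le_max hR hH.invariant).trans inf_le_left)
  have h1 : W ≤ centralizer (core p K : Set G) := by
    refine Coprime.thompson_AxB ((core_isPGroup H).to_le hA) ?_ ?_ _ (core_isPGroup K)
      (hAK.trans (le_normalizer_core K)) (inf_le_right.trans (le_normalizer_core K)) ?_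
    · obtain ⟨i, hi⟩ := IsPGroup.iff_card.mp hWr
      rw [hi]
      exact Nat.Coprime.pow_left i ((Nat.coprime_primes hr.out hp.out).mpr hpr.symm)
    · exact (hA.trans (cores_commute hM hpr hP hR)).trans (centralizer_le inf_le_left)
    · rintro x ⟨hxK, hxA⟩
      have hxH : x ∈ H := hcA ⟨(core_le_max hP hK.invariant hxK).1, hxA⟩
      exact mem_centralizer_iff.mpr fun w hw =>
        (commute_of_norm (inf_eq_bot_of_pGroup hpr (core_isPGroup K) (core_isPGroup H)) hxK hw.1
          (le_normalizer_core H hxH) (le_normalizer_core K hw.2)).symm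
  exact (le_inf (le_inf hWR inf_le_right) h1).trans (faithful hM hpr hP hR hK)

theorem core_le_of_piece {H K B₀ : Subgroup G} (hK : IsPR A p r K) (hB : B₀ ≤ core r K)
    (hcB : P ⊓ centralizer (B₀ : Set G) ≤ H) : core p K ≤ H :=
  (le_inf ((core_le_max hP hK.invariant).trans inf_le_left)
    ((cores_commute hM hpr hP hR).trans (centralizer_le hB))).trans hcB

omit hp hr hpr in
theorem cent_parts [Fact p.Prime] [Fact r.Prime] {H X : Subgroup G}
    (h : P ⊓ normalizer (X : Set G) ≤ H ∧ R ⊓ normalizer (X : Set G) ≤ H) :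
    P ⊓ centralizer (X : Set G) ≤ H ∧ R ⊓ centralizer (X : Set G) ≤ H :=
  ⟨(inf_le_inf_left P (centralizer_le_normalizer _)).trans h.1,
    (inf_le_inf_left R (centralizer_le_normalizer _)).trans h.2⟩

theorem core_norm {H : Subgroup G} (hH : IsMaxPR A p r H) (hne : core p H ≠ ⊥) :
    P ⊓ normalizer (core p H : Set G) ≤ H ∧ R ⊓ normalizer (core p H : Set G) ≤ H :=
  hH.norm_le hM hpr hP hR (inv_core hH.pr.invariant) hne
    (haveI := (core_isPGroup (p := p) H).isNilpotent; inferInstance) (le_normalizer_core H)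

theorem core_norm' {H : Subgroup G} (hH : IsMaxPR A p r H) (hne : core r H ≠ ⊥) :
    P ⊓ normalizer (core r H : Set G) ≤ H ∧ R ⊓ normalizer (core r H : Set G) ≤ H :=
  hH.norm_le hM hpr hP hR (inv_core hH.pr.invariant) hne
    (haveI := (core_isPGroup (p := r) H).isNilpotent; inferInstance) (le_normalizer_core H)

theorem unique {H K : Subgroup G} (hH : IsMaxPR A p r H) (hmx : Mixed p r H) (hK : IsMaxPR A p r K)
    (h1 : core p H ≤ K) (h2 : core r H ≤ K) : K ≤ H := by
  have hA := cent_parts hM hP hR (core_norm hM hpr hP hR hH hmx.1)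
  have hB := cent_parts hM hP hR (core_norm' hM hpr hP hR hH hmx.2)
  have e1 : core r H ≤ core r K := by
    rw [← inf_eq_left.mpr h2]; exact propagate hM hpr hP hR hH.pr hK.pr le_rfl h1 hA.1
  have e2 : core p H ≤ core p K := by
    rw [← inf_eq_left.mpr h1]
    exact propagate hM hpr.symm hR hP hH.pr.symm hK.pr.symm le_rfl h2 hB.2
  have f1 : core p K ≤ H := core_le_of_piece hM hpr hP hR hK.pr e1 hB.1
  have f2 : core r K ≤ H := core_le_of_piece hM hpr.symm hR hP hK.pr.symm e2 hA.2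
  have kne : core p K ≠ ⊥ := fun e => hmx.1 (le_bot_iff.mp (e ▸ e2))
  have kne' : core r K ≠ ⊥ := fun e => hmx.2 (le_bot_iff.mp (e ▸ e1))
  have g1 : core p K ≤ core p H := by
    rw [← inf_eq_left.mpr f1]
    exact propagate hM hpr.symm hR hP hK.pr.symm hH.pr.symm le_rfl f2
      (cent_parts hM hP hR (core_norm' hM hpr hP hR hK kne')).2
  have e : core p K = core p H := le_antisymm g1 e2
  have hn := core_norm hM hpr hP hR hH hmx.1
  rw [← e] at hn
  exact le_of_parts hM hpr hP hR hK.pr ((inf_le_inf_left P (le_normalizer_core K)).trans hn.1)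
    ((inf_le_inf_left R (le_normalizer_core K)).trans hn.2)

theorem zc_cent {H X : Subgroup G} (hH : IsMaxPR A p r H) (hmx : Mixed p r H) (hXi : IsInvariant A X)
    (hX : X ≤ zc p H) (hne : X ≠ ⊥) :
    P ⊓ centralizer (X : Set G) ≤ H ∧ R ⊓ centralizer (X : Set G) ≤ H := by
  obtain ⟨K, hK, h1, h2⟩ := exists_cent hM hpr hP hR hXi hne
  have hKH : K ≤ H := unique hM hpr hP hR hH hmx hK
    ((le_inf ((core_le_max hP hH.pr.invariant).trans inf_le_left)
      (le_centralizer_symm (hX.trans inf_le_right))).trans h1)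
    ((le_inf ((core_le_max hR hH.pr.invariant).trans inf_le_left)
      (le_centralizer_symm ((hX.trans inf_le_left).trans (cores_commute hM hpr hP hR)))).trans h2)
  exact ⟨h1.trans hKH, h2.trans hKH⟩

/-- Two pieces of the centres determine the maximal subgroup. -/
theorem pieces {H K X Y : Subgroup G} (hH : IsMaxPR A p r H) (hmx : Mixed p r H) (hK : IsMaxPR A p r K)
    (hXi : IsInvariant A X) (hX : X ≤ zc p H) (hXne : X ≠ ⊥) (hXK : X ≤ K) (hYi : IsInvariant A Y)
    (hY : Y ≤ zc r H) (hYne : Y ≠ ⊥) (hYK : Y ≤ K) : K ≤ H := by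
  have hcX := zc_cent hM hpr hP hR hH hmx hXi hX hXne
  have hcY := zc_cent hM hpr.symm hR hP hH.symm hmx.symm hYi hY hYne
  have e1 : Y ≤ core r K :=
    (le_inf (hY.trans inf_le_left) hYK).trans
      (propagate hM hpr hP hR hH.pr hK.pr (hX.trans inf_le_left) hXK hcX.1)
  have e2 : X ≤ core p K :=
    (le_inf (hX.trans inf_le_left) hXK).trans
      (propagate hM hpr.symm hR hP hH.pr.symm hK.pr.symm (hY.trans inf_le_left) hYK hcY.1)
  have kmx : Mixed p r K :=
    ⟨fun e => hXne (le_bot_iff.mp (e ▸ e2)), fun e => hYne (le_bot_iff.mp (e ▸ e1))⟩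
  exact hH.max K hK.pr (unique hM hpr hP hR hK kmx hH
    (core_le_of_piece hM hpr hP hR hK.pr e1 hcY.2) (core_le_of_piece hM hpr.symm hR hP hK.pr.symm e2 hcX.2))

end Pair

end Cfsg.Agent.H42.AbelFix
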