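import Cfsg.Agent.H42.AbelFix.Pair

/-!
The permutability theorem for two primes sharing a line.
-/

namespace Cfsg.Agent.H42.AbelFix

open Subgroup
open Cfsg.Agent.Coprime (IsInvariant)

set_option linter.style.haveILetI false

variable {A G : Type*} [Group A] [Group G] [MulDistribMulAction A G] [Finite A] [Finite G]
  {q p r : ℕ} [hp : Fact p.Prime] [hr : Fact r.Prime] {P R : Subgroup G}

section Pair

variable (hM : Min q A G) (hpr : p ≠ r) (hP : InvMax A p P) (hR : InvMax A r R)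

include hM hpr hP hR

/-- `Z(R)` has a piece. -/
theorem exists_center_piece (hne : R ≠ ⊥) :
    ∃ d : A, d ≠ 1 ∧ R ⊓ centralizer (R : Set G) ⊓ fx G d ≠ ⊥ :=
  hM.cfg.exists_piece (inv_inf hR.invariant (inv_centralizer hR.invariant))
    (center_ne_bot_of_pGroup hR.isPGroup hne)

section Mixed

variable {H : Subgroup G} (hH : IsMaxPR A p r H) (hmx : Mixed p r H) (hnR : ¬ R ≤ H)

include hH hmx hnR

theorem other_lines {d : A} (hd : d ≠ 1) (hW : R ⊓ centralizer (R : Set G) ⊓ fx G d ≠ ⊥) :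
    ∀ c : A, c ∉ zpowers d → zc p H ⊓ fx G c ≠ ⊥ ∧ P ⊓ fx G c ≤ H ∧ R ⊓ fx G c ≤ H := by
  set W := R ⊓ centralizer (R : Set G) ⊓ fx G d with hWd
  have hWi : IsInvariant A W :=
    inv_inf (inv_inf hR.invariant (inv_centralizer hR.invariant)) (hM.cfg.inv_fx d)
  have hWR : W ≤ R := inf_le_left.trans inf_le_left
  have hOR : core r H ≤ R := (core_le_max hR hH.pr.invariant).trans inf_le_left
  have hWH : W ≤ H := (le_inf hWR ((inf_le_left.trans inf_le_right).trans
    ((centralizer_le hOR).trans (centralizer_le_normalizer _)))).trans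
      (core_norm' hM hpr hP hR hH hmx.2).2
  set X := zc p H with hX
  have hXi : IsInvariant A X := inv_zc hH.pr.invariant
  have hWX : W ≤ normalizer (X : Set G) := hWH.trans ((le_inf (le_normalizer_core H)
    (norm_cent hM hP hR (le_normalizer_core H))).trans inf_normalizer_le_normalizer_inf)
  have hXp : IsPGroup p X := (core_isPGroup H).to_le inf_le_left
  have hfix : X ⊓ centralizer (W : Set G) = ⊥ := by
    by_contra hne
    obtain ⟨K, hK, h1, h2⟩ := exists_cent hM hpr hP hR hWi hW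
    have hRK : R ≤ K :=
      (le_inf le_rfl (le_centralizer_symm (inf_le_left.trans inf_le_right))).trans h2
    refine hnR (hRK.trans (pieces hM hpr hP hR hH hmx hK
      (inv_inf hXi (inv_centralizer hWi)) inf_le_left hne ?_
      (inv_zc hH.pr.invariant) le_rfl (center_ne_bot_of_pGroup (core_isPGroup H) hmx.2)
      ((inf_le_left.trans hOR).trans hRK)))
    exact (inf_le_inf_right _ ((inf_le_left.trans (core_le_max hP hH.pr.invariant)).trans inf_le_left)).trans h1
  have hact : ¬ W ≤ centralizer (X : Set G) := fun hle => by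
    refine center_ne_bot_of_pGroup (p := p) (core_isPGroup H) hmx.1 ?_
    have : X ⊓ centralizer (W : Set G) = X := inf_eq_left.mpr (le_centralizer_symm hle)
    rw [this] at hfix
    exact hfix
  intro c hc
  have hne : X ⊓ fx G c ≠ ⊥ := ne_bot_of_act hM.cfg hpr.symm hWi (hR.isPGroup.to_le hWR) hXi hXp hWX
    hd inf_le_right hact hc
  obtain ⟨h1, h2⟩ := zc_cent hM hpr hP hR hH hmx (inv_inf hXi (hM.cfg.inv_fx c)) inf_le_left hne
  have hcomm : fx G c ≤ centralizer ((X ⊓ fx G c : Subgroup G) : Set G) := fun x hx =>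
    mem_centralizer_iff.mpr fun y hy => hM.cfg.piece_comm (ne_one_of_notMem hc) hy.2 hx
  exact ⟨hne, (inf_le_inf_left P hcomm).trans h1, (inf_le_inf_left R hcomm).trans h2⟩

theorem not_line {d : A} (hd : d ≠ 1) (hW : R ⊓ centralizer (R : Set G) ⊓ fx G d ≠ ⊥) :
    ¬ R ⊓ fx G d ≤ H := fun hle => hnR (hM.cfg.le_of_pieces hR.invariant fun a ha => by
  by_cases hm : a ∈ zpowers d
  · rw [hM.cfg.fx_eq ha hm]; exact hle
  · exact (other_lines hM hpr hP hR hH hmx hnR hd hW a hm).2.2)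

/-- Another maximal subgroup containing a piece of the centre normalizes `P`. -/
theorem char_of_piece {d : A} (hd : d ≠ 1) (hW : R ⊓ centralizer (R : Set G) ⊓ fx G d ≠ ⊥)
    {K X : Subgroup G} (hK : IsMaxPR A p r K) (hXi : IsInvariant A X) (hX : X ≤ zc p H) (hXne : X ≠ ⊥)
    (hXK : X ≤ K) (hKH : ¬ K ≤ H) : K ≤ normalizer (P : Set G) := by
  have hYi : IsInvariant A (zc r H) := inv_zc hH.pr.invariant
  have hYne : zc r H ≠ ⊥ := center_ne_bot_of_pGroup (core_isPGroup H) hmx.2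
  have hYR : zc r H ≤ R := inf_le_left.trans ((core_le_max hR hH.pr.invariant).trans inf_le_left)
  have hno : ¬ R ≤ K := fun hRK =>
    hKH (pieces hM hpr hP hR hH hmx hK hXi hX hXne hXK hYi le_rfl hYne (hYR.trans hRK))
  have hKne : K ≠ ⊥ := fun e => hKH (e ▸ bot_le)
  by_cases hb : core r K = ⊥
  · exact (charP hM hpr hP hR hK hb hKne).2.1
  exfalso
  by_cases hb' : core p K = ⊥
  · exact hno (charP hM hpr.symm hR hP hK.symm hb' hKne).1
  -- `K` is mixed
  obtain ⟨c, hc, hcne⟩ : ∃ c : A, c ∉ zpowers d ∧ zc r H ⊓ fx G c ≠ ⊥ := by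
    by_contra! hall
    obtain ⟨a, ha, hane⟩ := hM.cfg.exists_piece hYi hYne
    have hm : a ∈ zpowers d := by
      by_contra hm
      exact hane (hall a hm)
    rw [hM.cfg.fx_eq ha hm] at hane
    refine not_line hM hpr hP hR hH hmx hnR hd hW ?_
    have h1 := (zc_cent hM hpr.symm hR hP hH.symm hmx.symm (inv_inf hYi (hM.cfg.inv_fx d)) inf_le_left hane).1
    exact (inf_le_inf_left R (fun x hx => mem_centralizer_iff.mpr fun y hy =>
      hM.cfg.piece_comm hd hy.2 hx)).trans h1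
  have hRc := (other_lines hM hpr hP hR hK ⟨hb', hb⟩ hno hd hW c hc).2.2
  exact hKH (pieces hM hpr hP hR hH hmx hK hXi hX hXne hXK (inv_inf hYi (hM.cfg.inv_fx c)) inf_le_left
    hcne ((inf_le_inf_right _ hYR).trans hRc))

theorem line_core {d : A} (hd : d ≠ 1) (hW : R ⊓ centralizer (R : Set G) ⊓ fx G d ≠ ⊥) :
    core p H ⊓ fx G d ≠ ⊥ := by
  intro hb
  set T := core p H with hT
  set O := core r H with hO
  set V₀ := R ⊓ H with hV₀
  have hc := hM.cfg
  have hOi : IsInvariant A O := inv_core hH.pr.invariant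
  have hOV : O ≤ V₀ := core_le_max hR hH.pr.invariant
  have hV₀i : IsInvariant A V₀ := inv_inf hR.invariant hH.pr.invariant
  have hsmall : ∀ c : A, c ∉ zpowers d → R ⊓ fx G c ≤ O := by
    intro c hcd
    have hle : R ⊓ fx G c ≤ V₀ := le_inf inf_le_left (other_lines hM hpr hP hR hH hmx hnR hd hW c hcd).2.2
    refine (le_inf hle ?_).trans (faithful hM hpr hP hR hH.pr)
    by_contra hne
    exact ne_bot_of_act hc hpr.symm (inv_inf hR.invariant (hc.inv_fx c))
      (hR.isPGroup.to_le inf_le_left) (inv_core hH.pr.invariant) (core_isPGroup H)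
      ((hle.trans inf_le_right).trans (le_normalizer_core H)) (ne_one_of_notMem hcd) inf_le_right hne
      (hc.notMem_symm hd hcd) hb
  have hlt : V₀ < R := lt_of_le_of_ne inf_le_left fun e => hnR (e ▸ inf_le_right)
  obtain ⟨g, hg, hgn⟩ := SetLike.exists_of_lt (H61.exists_normalizer_gt hR.isPGroup hlt)
  obtain ⟨u, hu, v, hv, rfl⟩ := extend hc hR.isPGroup hR.invariant hd V₀ hV₀i inf_le_left
    (fun c hcd => (hsmall c hcd).trans hOV) g hg.1
  have hvV : v ∈ normalizer (V₀ : Set G) := by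
    have := mul_mem (inv_mem (le_normalizer (H := V₀) hu)) hg.2
    rwa [inv_mul_cancel_left] at this
  have hvnot : v ∉ H := fun h => hgn (V₀.mul_mem hu ⟨hv.1, h⟩)
  have key : O ≤ O.comap (MulAut.conj v).toMonoidHom := by
    refine hc.le_of_pieces hOi fun a ha x hx => ?_
    show v * x * v⁻¹ ∈ O
    by_cases hm : a ∈ zpowers d
    · have hxd : x ∈ fx G d := by rw [← hc.fx_eq ha hm]; exact hx.2
      rw [hc.piece_comm hd hv.2 hxd, mul_inv_cancel_right]
      exact hx.1
    let f : ↥(O ⊓ fx G a : Subgroup G) → ↥(O ⊓ fx G a : Subgroup G) := fun y => ⟨(y : G)⁻¹ * d • (y : G),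
      (O ⊓ fx G a).mul_mem ((O ⊓ fx G a).inv_mem y.2) ⟨hOi d _ y.2.1, hc.inv_fx a d _ y.2.2⟩⟩
    have hf : Function.Injective f := by
      intro y z hyz
      have h1 : (y : G)⁻¹ * d • (y : G) = (z : G)⁻¹ * d • (z : G) := congrArg Subtype.val hyz
      have h2 : d • ((y : G) * (z : G)⁻¹) = (y : G) * (z : G)⁻¹ := by
        have e : d • (y : G) = (y : G) * ((z : G)⁻¹ * d • (z : G)) := by rw [← h1, mul_inv_cancel_left]
        rw [smul_mul', e, smul_inv', mul_assoc, mul_assoc, mul_inv_cancel, mul_one]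
      have h3 := hc.fixed_two ha (hc.notMem_symm hd hm) ((O ⊓ fx G a).mul_mem y.2 ((O ⊓ fx G a).inv_mem z.2)).2 h2
      exact Subtype.ext (mul_inv_eq_one.mp h3)
    obtain ⟨y, hy⟩ := (Finite.injective_iff_surjective.mp hf) ⟨x, hx⟩
    have hxy : (y : G)⁻¹ * d • (y : G) = x := congrArg Subtype.val hy
    have hdv : d • v = v := hv.2
    obtain ⟨o, ho, w, hw, hz⟩ := extend hc (hR.isPGroup.to_le inf_le_left) hV₀i hd O hOi hOV
      (fun c hcd => (inf_le_inf_right _ (inf_le_left : V₀ ≤ R)).trans (hsmall c hcd))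
      (v * y * v⁻¹) ((mem_normalizer_iff.mp hvV y).mp (hOV y.2.1))
    have e : v * x * v⁻¹ = w⁻¹ * (o⁻¹ * d • o) * w := by
      have hdz : d • (v * y * v⁻¹) = v * (d • (y : G)) * v⁻¹ := by rw [smul_mul', smul_mul', smul_inv', hdv]
      have hdw : d • (o * w) = (d • o) * w := by rw [smul_mul', show d • w = w from hw.2]
      have : v * x * v⁻¹ = (v * y * v⁻¹)⁻¹ * d • (v * y * v⁻¹) := by
        rw [hdz, ← hxy]; simp [mul_assoc]
      rw [this, hz, hdw, mul_inv_rev]
      simp [mul_assoc]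
    rw [e]
    have hwn : w⁻¹ ∈ normalizer (O : Set G) := inv_mem (le_normalizer_core H hw.1.2)
    simpa using (mem_normalizer_iff.mp hwn _).mp (O.mul_mem (O.inv_mem ho) (hOi d _ ho))
  have hvO : v ∈ normalizer (O : Set G) := Coprime.mem_normalizer_of_map_conj
    (eq_of_le_of_card_ge (map_le_iff_le_comap.mpr key)
      (card_map_of_injective (MulAut.conj v).injective).ge)
  exact hvnot ((core_norm' hM hpr hP hR hH hmx.2).2 ⟨hv.1, hvO⟩)

theorem line_normalizes {d : A} (hd : d ≠ 1) (hW : R ⊓ centralizer (R : Set G) ⊓ fx G d ≠ ⊥) :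
    R ⊓ fx G d ≤ normalizer (P : Set G) := by
  set T := core p H ⊓ fx G d with hT
  have hTi : IsInvariant A T := inv_inf (inv_core hH.pr.invariant) (hM.cfg.inv_fx d)
  obtain ⟨K, hK, h1, h2⟩ := exists_cent hM hpr hP hR hTi (line_core hM hpr hP hR hH hmx hnR hd hW)
  have hRd : R ⊓ fx G d ≤ K := (le_inf inf_le_left fun x hx => mem_centralizer_iff.mpr fun y hy =>
    hM.cfg.piece_comm hd hy.2 hx.2).trans h2
  have hXK : zc p H ≤ K := (le_inf ((inf_le_left.trans (core_le_max hP hH.pr.invariant)).trans inf_le_left)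
    (inf_le_right.trans (centralizer_le inf_le_left))).trans h1
  exact hRd.trans (char_of_piece hM hpr hP hR hH hmx hnR hd hW hK (inv_zc hH.pr.invariant) le_rfl
    (center_ne_bot_of_pGroup (core_isPGroup H) hmx.1) hXK
    (fun h => not_line hM hpr hP hR hH hmx hnR hd hW (hRd.trans h)))

theorem part_normalizes {d : A} (hd : d ≠ 1) (hW : R ⊓ centralizer (R : Set G) ⊓ fx G d ≠ ⊥) :
    R ⊓ H ⊓ normalizer ((P ⊓ H : Subgroup G) : Set G) ≤ normalizer (P : Set G) := by
  by_cases hPH : P ≤ H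
  · rw [inf_eq_left.mpr hPH]; exact inf_le_right
  set Q := P ⊓ H with hQ
  have hQi : IsInvariant A Q := inv_inf hP.invariant hH.pr.invariant
  have hQp : IsPGroup p Q := hP.isPGroup.to_le inf_le_left
  have hTQ : core p H ≤ Q := core_le_max hP hH.pr.invariant
  have hQne : Q ≠ ⊥ := fun e => hmx.1 (le_bot_iff.mp (e ▸ hTQ))
  obtain ⟨K, hK, h1, h2⟩ :=
    exists_norm hM hpr hP hR hQi hQne (haveI := hQp.isNilpotent; inferInstance)
  have hXK : zc p H ≤ K := (le_inf ((inf_le_left.trans hTQ).trans inf_le_left)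
    ((inf_le_left.trans hTQ).trans le_normalizer)).trans h1
  have hKH : ¬ K ≤ H := fun h => by
    have hlt : Q < P := lt_of_le_of_ne inf_le_left fun e => hPH (e ▸ inf_le_right)
    exact (H61.exists_normalizer_gt hP.isPGroup hlt).not_ge (le_inf inf_le_left (h1.trans h))
  exact ((inf_le_inf_right _ inf_le_left).trans h2).trans
    (char_of_piece hM hpr hP hR hH hmx hnR hd hW hK (inv_zc hH.pr.invariant) le_rfl
      (center_ne_bot_of_pGroup (core_isPGroup H) hmx.1) hXK hKH)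

end Mixed

theorem perm_mixed_R {H : Subgroup G} (hH : IsMaxPR A p r H) (hmx : Mixed p r H) (hnR : ¬ R ≤ H) :
    Perm P R := by
  have hRne : R ≠ ⊥ := fun e => hnR (e ▸ bot_le)
  obtain ⟨d, hd, hW⟩ := exists_center_piece hM hpr hP hR hRne
  have hP' : ∀ x ∈ P, ∃ s ∈ P ⊓ H, ∃ u ∈ P ⊓ normalizer (R : Set G), x = s * u := by
    intro x hx
    by_cases hPH : P ≤ H
    · exact ⟨x, ⟨hx, hPH hx⟩, 1, one_mem _, (mul_one x).symm⟩
    have hPne : P ≠ ⊥ := fun e => hPH (e ▸ bot_le)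
    obtain ⟨f, hf, hZ⟩ := exists_center_piece hM hpr.symm hR hP hPne
    obtain ⟨s, hs, u, hu, e⟩ := extend hM.cfg hP.isPGroup hP.invariant hf (P ⊓ H)
      (inv_inf hP.invariant hH.pr.invariant) inf_le_left
      (fun c hc => le_inf inf_le_left
        (other_lines hM hpr.symm hR hP hH.symm hmx.symm hPH hf hZ c hc).2.2) x hx
    exact ⟨s, hs, u, ⟨hu.1, line_normalizes hM hpr.symm hR hP hH.symm hmx.symm hPH hf hZ hu⟩, e⟩
  intro x hx y hy
  obtain ⟨s, hs, u, hu, rfl⟩ := hP' x hx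
  have hy' : u * y * u⁻¹ ∈ R := (mem_normalizer_iff.mp hu.2 y).mp hy
  obtain ⟨z, hz, v, hv, hzv⟩ := extend hM.cfg hR.isPGroup hR.invariant hd (R ⊓ H)
    (inv_inf hR.invariant hH.pr.invariant) inf_le_left
    (fun c hc => le_inf inf_le_left (other_lines hM hpr hP hR hH hmx hnR hd hW c hc).2.2) _ hy'
  obtain ⟨o, ho, n, hn, rfl⟩ := frat hM hpr hP hR hH.pr hz
  have hnv : n * v ∈ normalizer (P : Set G) :=
    mul_mem (part_normalizes hM hpr hP hR hH hmx hnR hd hW hn)
      (line_normalizes hM hpr hP hR hH hmx hnR hd hW hv)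
  obtain ⟨o', ho', s', hs', e⟩ := perm_in hM hpr hP hR hH.pr hs.2 (core_le H ho)
  refine ⟨o' * (n * v), R.mul_mem ho'.1 (R.mul_mem hn.1.1 hv.1), (n * v)⁻¹ * s' * (n * v) * u,
    P.mul_mem ?_ hu.1, ?_⟩
  · simpa using (mem_normalizer_iff.mp (inv_mem hnv) s').mp hs'.1
  · have h1 : u * y = (o * n * v) * u := by rw [← hzv]; simp [mul_assoc]
    calc s * u * y = s * (u * y) := mul_assoc _ _ _
      _ = (s * o) * (n * v) * u := by rw [h1]; simp [mul_assoc]
      _ = _ := by rw [e]; simp [mul_assoc]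

theorem perm_mixed {H : Subgroup G} (hH : IsMaxPR A p r H) (hmx : Mixed p r H) : Perm P R := by
  by_cases hnR : R ≤ H
  · by_cases hnP : P ≤ H
    · intro x hx y hy
      obtain ⟨y', hy', x', hx', e⟩ := perm_in hM hpr hP hR hH.pr (hnP hx) (hnR hy)
      exact ⟨y', hy'.1, x', hx'.1, e⟩
    · exact (perm_mixed_R hM hpr.symm hR hP hH.symm hmx.symm hnP).symm
  · exact perm_mixed_R hM hpr hP hR hH hmx hnR

section NoMixed

variable (hno : ∀ K : Subgroup G, IsMaxPR A p r K → ¬ Mixed p r K)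

include hno

theorem part_cases {K : Subgroup G} (hK : IsMaxPR A p r K) :
    P ⊓ K ≤ normalizer (R : Set G) ∨ R ⊓ K ≤ normalizer (P : Set G) := by
  by_cases hne : K = ⊥
  · left; rw [hne, inf_bot_eq]; exact bot_le
  by_cases hb : core r K = ⊥
  · exact Or.inr (inf_le_right.trans (charP hM hpr hP hR hK hb hne).2.1)
  by_cases hb' : core p K = ⊥
  · exact Or.inl (inf_le_right.trans (charP hM hpr.symm hR hP hK.symm hb' hne).2.1)
  exact absurd ⟨hb', hb⟩ (hno K hK)

omit hno in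
theorem line_cent {c : A} (hc : c ≠ 1) (X : Subgroup G) (hX : X ≤ fx G c) :
    fx G c ≤ centralizer (X : Set G) := fun x hx =>
  mem_centralizer_iff.mpr fun y hy => hM.cfg.piece_comm hc (hX hy) hx

theorem piece_cases {c : A} (hc : c ≠ 1) :
    P ⊓ fx G c ≤ normalizer (R : Set G) ∨ R ⊓ fx G c ≤ normalizer (P : Set G) := by
  by_cases hb : P ⊓ fx G c = ⊥
  · exact Or.inl (hb.le.trans bot_le)
  obtain ⟨K, hK, h1, h2⟩ := exists_cent hM hpr hP hR (inv_inf hP.invariant (hM.cfg.inv_fx c)) hb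
  have hcc := line_cent hM hpr hP hR hc (P ⊓ fx G c) inf_le_right
  rcases part_cases hM hpr hP hR hno hK with h | h
  · exact Or.inl ((le_inf inf_le_left ((inf_le_inf_left P hcc).trans h1)).trans h)
  · exact Or.inr ((le_inf inf_le_left ((inf_le_inf_left R hcc).trans h2)).trans h)

theorem center_normalizes {c : A} (hc : c ≠ 1) (hb : R ⊓ fx G c ≠ ⊥)
    (hn : ¬ P ⊓ fx G c ≤ normalizer (R : Set G)) :
    R ⊓ centralizer (R : Set G) ≤ normalizer (P : Set G) := by
  obtain ⟨K, hK, h1, h2⟩ := exists_cent hM hpr hP hR (inv_inf hR.invariant (hM.cfg.inv_fx c)) hb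
  have hcc := line_cent hM hpr hP hR hc (R ⊓ fx G c) inf_le_right
  rcases part_cases hM hpr hP hR hno hK with h | h
  · exact absurd ((le_inf inf_le_left ((inf_le_inf_left P hcc).trans h1)).trans h) hn
  · refine (le_inf inf_le_left ?_).trans h
    exact (le_inf inf_le_left (inf_le_right.trans (centralizer_le inf_le_left))).trans h2

theorem faithful_norm {c : A} (hn : ¬ P ⊓ fx G c ≤ normalizer (R : Set G)) :
    R ⊓ normalizer (P : Set G) ⊓ centralizer (P : Set G) = ⊥ := by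
  have hPne : P ≠ ⊥ := fun e => hn (by rw [e, bot_inf_eq]; exact bot_le)
  obtain ⟨K, hK, h1, h2⟩ :=
    exists_norm hM hpr hP hR hP.invariant hPne (haveI := hP.isPGroup.isNilpotent; inferInstance)
  have hPK : P ≤ K := (le_inf le_rfl le_normalizer).trans h1
  have hKne : K ≠ ⊥ := fun e => hPne (le_bot_iff.mp (e ▸ hPK))
  by_cases hb : core r K = ⊥
  · refine le_bot_iff.mp (le_trans ?_ (charP hM hpr hP hR hK hb hKne).2.2.le)
    exact inf_le_inf_right _ (le_inf inf_le_left h2)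
  exfalso
  by_cases hb' : core p K = ⊥
  · exact hn ((inf_le_left.trans hPK).trans (charP hM hpr.symm hR hP hK.symm hb' hKne).2.1)
  exact hno K hK ⟨hb', hb⟩

theorem moved {c f : A} (hn : ¬ P ⊓ fx G c ≤ normalizer (R : Set G))
    (hZ : R ⊓ centralizer (R : Set G) ≤ normalizer (P : Set G)) (hf : f ≠ 1)
    (hY : R ⊓ centralizer (R : Set G) ⊓ fx G f ≠ ⊥) {k : A} (hk : k ∉ zpowers f) :
    ¬ P ⊓ fx G k ≤ normalizer (R : Set G) := by
  set Y := R ⊓ centralizer (R : Set G) ⊓ fx G f with hYd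
  have hYV : Y ≤ R ⊓ normalizer (P : Set G) := le_inf (inf_le_left.trans inf_le_left) (inf_le_left.trans hZ)
  have hYi : IsInvariant A Y :=
    inv_inf (inv_inf hR.invariant (inv_centralizer hR.invariant)) (hM.cfg.inv_fx f)
  intro hle
  refine lines_of_act hM.cfg hpr.symm hYi (hR.isPGroup.to_le (hYV.trans inf_le_left)) hP.invariant
    hP.isPGroup (hYV.trans inf_le_right) hf inf_le_right ?_ hk ?_
  · intro h
    exact hY (le_bot_iff.mp ((le_inf hYV h).trans (faithful_norm hM hpr hP hR hno hn).le))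
  · intro x hx
    refine mem_centralizer_iff.mpr fun y hy => ?_
    exact (commute_of_norm (inf_eq_bot_of_pGroup hpr hP.isPGroup hR.isPGroup) hx.1 (hYV hy).1
      (hle hx) (hYV hy).2).symm

theorem perm_nomixed_aux (hR2 : TwoLines A R) {e : A} (he : e ≠ 1) (hPe : P ⊓ fx G e ≠ ⊥)
    (hRe : R ⊓ fx G e ≠ ⊥)
    (hLR : ∀ d : A, d ≠ 1 → ¬ R ⊓ fx G d ≤ normalizer (P : Set G) → P ⊓ fx G d = ⊥) :
    Perm P R := by
  by_contra hnp
  have hc := hM.cfg
  set V := R ⊓ normalizer (P : Set G) with hV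
  have hVi : IsInvariant A V := inv_inf hR.invariant hP.invariant.normalizer
  obtain ⟨d₀, hd₀, hn₀⟩ : ∃ d₀ : A, d₀ ≠ 1 ∧ ¬ R ⊓ fx G d₀ ≤ normalizer (P : Set G) := by
    by_contra! hall
    exact hnp (perm_of_normalizes (hc.le_of_pieces hR.invariant hall))
  obtain ⟨c₀, hc₀, hm₀⟩ : ∃ c₀ : A, c₀ ≠ 1 ∧ ¬ P ⊓ fx G c₀ ≤ normalizer (R : Set G) := by
    by_contra! hall
    exact hnp (perm_of_normalizes (hc.le_of_pieces hP.invariant hall)).symm
  by_cases hVb : V = ⊥
  · refine hPe (hLR e he fun hle => hRe (le_bot_iff.mp ?_))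
    rw [← hVb]
    exact le_inf inf_le_left hle
  obtain ⟨a, ha, hVa⟩ := hc.exists_piece hVi hVb
  have hfaith := faithful_norm hM hpr hP hR hno hm₀
  have hlines : ∀ b : A, b ≠ 1 → V ⊓ fx G b ≠ ⊥ → ∀ c : A, c ∉ zpowers b → P ⊓ fx G c ≠ ⊥ := by
    intro b hb hVb' c hcb
    refine ne_bot_of_act hc hpr.symm (inv_inf hVi (hc.inv_fx b))
      (hR.isPGroup.to_le (inf_le_left.trans inf_le_left)) hP.invariant hP.isPGroup
      (inf_le_left.trans inf_le_right) hb inf_le_right ?_ hcb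
    exact fun h => hVb' (le_bot_iff.mp ((le_inf inf_le_left h).trans hfaith.le))
  have hin : ∀ c : A, c ∉ zpowers a → R ⊓ fx G c ≤ normalizer (P : Set G) := by
    intro c hca
    by_contra hn
    exact hlines a ha hVa c hca (hLR c (ne_one_of_notMem hca) hn)
  by_cases hex : ∃ c : A, c ∉ zpowers a ∧ R ⊓ fx G c ≠ ⊥
  · obtain ⟨c, hca, hRc⟩ := hex
    have hVc : V ⊓ fx G c ≠ ⊥ := fun e' => hRc (le_bot_iff.mp
      (e' ▸ le_inf (le_inf inf_le_left (hin c hca)) inf_le_right))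
    have hPa := hlines c (ne_one_of_notMem hca) hVc a (hc.notMem_symm ha hca)
    by_cases hm : d₀ ∈ zpowers a
    · exact hPa (by rw [← hc.fx_eq hd₀ hm]; exact hLR d₀ hd₀ hn₀)
    · exact hn₀ (hin d₀ hm)
  push Not at hex
  refine hR2 a ha (hc.le_of_pieces hR.invariant fun c hc' => ?_)
  by_cases hm : c ∈ zpowers a
  · rw [hc.fx_eq hc' hm]; exact inf_le_right
  · rw [hex c hm]; exact bot_le

end NoMixed

/-- Two primes sharing a line permute. -/
theorem perm_of_common_line (hP2 : TwoLines A P) (hR2 : TwoLines A R) {e : A} (he : e ≠ 1)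
    (hPe : P ⊓ fx G e ≠ ⊥) (hRe : R ⊓ fx G e ≠ ⊥) : Perm P R := by
  by_cases hmix : ∃ K : Subgroup G, IsMaxPR A p r K ∧ Mixed p r K
  · obtain ⟨K, hK, hmx⟩ := hmix
    exact perm_mixed hM hpr hP hR hK hmx
  push Not at hmix
  have hno' : ∀ K : Subgroup G, IsMaxPR A r p K → ¬ Mixed r p K :=
    fun K hK hm => hmix K hK.symm hm.symm
  by_cases hLR : ∀ d : A, d ≠ 1 → ¬ R ⊓ fx G d ≤ normalizer (P : Set G) → P ⊓ fx G d = ⊥
  · exact perm_nomixed_aux hM hpr hP hR hmix hR2 he hPe hRe hLR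
  by_cases hLP : ∀ c : A, c ≠ 1 → ¬ P ⊓ fx G c ≤ normalizer (R : Set G) → R ⊓ fx G c = ⊥
  · exact (perm_nomixed_aux hM hpr.symm hR hP hno' hP2 he hRe hPe hLP).symm
  exfalso
  push Not at hLR hLP
  obtain ⟨d, hd, hdn, hdP⟩ := hLR
  obtain ⟨c, hc, hcn, hcR⟩ := hLP
  have hZR := center_normalizes hM hpr hP hR hmix hc hcR hcn
  have hZP := center_normalizes hM hpr.symm hR hP hno' hd hdP hdn
  obtain ⟨f, hf, hY⟩ := exists_center_piece hM hpr hP hR (fun e' => hRe (by rw [e', bot_inf_eq]))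
  obtain ⟨b, hb, hX⟩ := exists_center_piece hM hpr.symm hR hP (fun e' => hPe (by rw [e', bot_inf_eq]))
  obtain ⟨k, hk, hkb, hkf⟩ := hM.cfg.exists_third b f
  rcases piece_cases hM hpr hP hR hmix hk with h | h
  · exact moved hM hpr hP hR hmix hcn hZR hf hY hkf h
  · exact moved hM hpr.symm hR hP hno' hdn hZP hb hX hkb h

end Pair

end Cfsg.Agent.H42.AbelFix
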