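import Cfsg.Agent.H42.AbelFix.Basic
import Cfsg.Agent.PGroups.Basic

/-!
An abelian subgroup of one line moved by a second line: the commutators lie in the span of the translates
of the fixed points of the second line.
-/

namespace Cfsg.Agent.H42.AbelFix

open Subgroup
open Cfsg.Agent.Coprime (IsInvariant)
open scoped IsMulCommutative

set_option linter.style.haveILetI false

variable {A G : Type*} [Group A] [Group G] [MulDistribMulAction A G] {q : ℕ} [Finite A] [Finite G]

theorem span (h : Cfg q A G) {W Z : Subgroup G} (hW : IsInvariant A W)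
    (hWc : ∀ x ∈ W, ∀ y ∈ W, x * y = y * x) (hZ : IsInvariant A Z)
    (hZW : Z ≤ normalizer (W : Set G)) (hcop : (Nat.card Z).Coprime (Nat.card W)) {e d : A}
    (he : e ≠ 1) (hd : d ∉ zpowers e) (hZe : Z ≤ fx G e) {J : Subgroup G}
    (hJ : ∀ z ∈ Z, ∀ w ∈ W, d • w = w → z * w * z⁻¹ ∈ J) :
    ∀ z ∈ Z, ∀ w ∈ W, z * w * z⁻¹ * w⁻¹ ∈ J := by
  classical
  haveI : IsMulCommutative W := ⟨⟨fun x y => Subtype.ext (hWc x x.2 y y.2)⟩⟩
  haveI := Fintype.ofFinite Z
  let α : Z → (W →* W) := fun z =>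
    { toFun := fun w => ⟨(z : G) * w * (z : G)⁻¹, (mem_normalizer_iff.mp (hZW z.2) w).mp w.2⟩
      map_one' := Subtype.ext (by simp)
      map_mul' := fun x y => Subtype.ext (by simp [mul_assoc]) }
  let σ : ℕ → (W →* W) := fun i =>
    { toFun := fun w => ⟨d ^ i • (w : G), hW _ _ w.2⟩
      map_one' := Subtype.ext (by simp)
      map_mul' := fun x y => Subtype.ext (by simp [smul_mul']) }
  let Nz : W → W := fun w => ∏ z : Z, α z w
  let S : W → W := fun w => ∏ z : Z, α z (∏ i ∈ Finset.range q, σ i (α z⁻¹ w))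
  have hq : 0 < q := h.prime.pos
  -- `S w` lies in `J`
  have hfix : ∀ u : W, d • ((∏ i ∈ Finset.range q, σ i u : W) : G) =
      ((∏ i ∈ Finset.range q, σ i u : W) : G) := by
    intro u
    have e1 : (σ 1) (∏ i ∈ Finset.range q, σ i u) = ∏ i ∈ Finset.range q, σ (i + 1) u := by
      rw [map_prod]
      refine Finset.prod_congr rfl fun i _ => Subtype.ext ?_
      show d ^ 1 • d ^ i • (u : G) = d ^ (i + 1) • (u : G)
      rw [← mul_smul, pow_one, ← pow_succ']
    have e0 : σ q u = σ 0 u := Subtype.ext (by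
      show d ^ q • (u : G) = d ^ 0 • (u : G)
      rw [h.pow_q d, pow_zero])
    have e2 : (∏ i ∈ Finset.range q, σ (i + 1) u) = ∏ i ∈ Finset.range q, σ i u := by
      have h1 := Finset.prod_range_succ (fun i => σ i u) q
      have h2 := Finset.prod_range_succ' (fun i => σ i u) q
      rw [h2, e0] at h1
      exact mul_right_cancel h1
    have he12 := congrArg Subtype.val (e1.trans e2)
    change d ^ 1 • _ = _ at he12
    rwa [pow_one] at he12
  have hS : ∀ w, S w ∈ J.subgroupOf W := fun w =>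
    Subgroup.prod_mem _ fun z _ => hJ z z.2 _ (Subtype.prop _) (hfix _)
  -- translation invariance
  have hNz : ∀ (z₀ : Z) (u : W), Nz (α z₀ u) = Nz u := by
    intro z₀ u
    show (∏ z : Z, α z (α z₀ u)) = ∏ z : Z, α z u
    refine Fintype.prod_equiv (Equiv.mulRight z₀) _ _ fun z => Subtype.ext ?_
    simp [α, mul_assoc]
  -- the terms other than the identity are norms
  have hi : ∀ i ∈ Finset.range q, i ≠ 0 → ∀ w : W, (∏ z : Z, α z (σ i (α z⁻¹ w))) = Nz (σ i w) := by
    intro i hi hi0 w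
    have hdi : d ^ i ∉ zpowers e := by
      intro hm
      have hne : d ^ i ≠ 1 := fun h1 => by
        have hle := Nat.le_of_dvd (by omega) (orderOf_dvd_of_pow_eq_one h1)
        haveI hqF : Fact q.Prime := Fact.mk h.prime
        rw [orderOf_eq_prime (h.pow_q d) (ne_one_of_notMem hd)] at hle
        exact absurd (Finset.mem_range.mp hi) (by omega)
      refine hd ?_
      rw [← h.zpowers_eq hne hm, h.zpowers_eq hne (pow_mem (mem_zpowers d) i)]
      exact mem_zpowers d
    let τ : Z → Z := fun z => z * ⟨d ^ i • ((z⁻¹ : Z) : G), hZ _ _ (z⁻¹ : Z).2⟩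
    have hcz : ∀ x y : Z, (x : G) * y = y * x := fun x y => h.comm e he _ _ (hZe x.2) (hZe y.2)
    have hτinj : Function.Injective τ := by
      intro x y hxy
      have h1 : (x : G) * (d ^ i • (x : G)⁻¹) = (y : G) * (d ^ i • (y : G)⁻¹) := by
        simpa [τ] using congrArg Subtype.val hxy
      have h2 : d ^ i • ((x : G)⁻¹ * y) = (x : G)⁻¹ * y := by
        rw [smul_mul', eq_inv_mul_iff_mul_eq, ← mul_assoc, h1, mul_assoc, ← smul_mul',
          inv_mul_cancel, smul_one, mul_one]
      have h3 := h.fixed_two he hdi (hZe (mul_mem (inv_mem x.2) y.2)) h2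
      exact Subtype.ext (inv_mul_eq_one.mp h3)
    refine Fintype.prod_equiv (Equiv.ofBijective τ (Finite.injective_iff_bijective.mp hτinj)) _ _
      fun z => Subtype.ext ?_
    simp only [α, σ, τ, Equiv.ofBijective_apply, MonoidHom.coe_mk, OneHom.coe_mk, Subgroup.coe_mul,
      InvMemClass.coe_inv, smul_mul', smul_inv', mul_inv_rev, inv_inv, mul_assoc]
  have hSeq : ∀ w : W, S w =
      w ^ Fintype.card Z * Nz (∏ i ∈ (Finset.range q).erase 0, σ i w) := by
    intro w
    calc S w = ∏ z : Z, ∏ i ∈ Finset.range q, α z (σ i (α z⁻¹ w)) :=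
          Finset.prod_congr rfl fun z _ => map_prod _ _ _
      _ = ∏ i ∈ Finset.range q, ∏ z : Z, α z (σ i (α z⁻¹ w)) := Finset.prod_comm
      _ = (∏ z : Z, α z (σ 0 (α z⁻¹ w))) *
          ∏ i ∈ (Finset.range q).erase 0, ∏ z : Z, α z (σ i (α z⁻¹ w)) :=
          (Finset.mul_prod_erase _ _ (Finset.mem_range.mpr hq)).symm
      _ = _ := by
        congr 1
        · have : ∀ z : Z, α z (σ 0 (α z⁻¹ w)) = w := fun z => Subtype.ext (by simp [α, σ, mul_assoc])
          simp [this]
        · rw [Finset.prod_congr rfl fun i hi' => hi i (Finset.mem_of_mem_erase hi')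
            (Finset.ne_of_mem_erase hi') w]
          show (∏ i ∈ (Finset.range q).erase 0, ∏ z : Z, α z (σ i w)) = ∏ z : Z, α z _
          rw [Finset.prod_comm]
          exact Finset.prod_congr rfl fun z _ => (map_prod _ _ _).symm
  intro z hz w hw
  set zz : Z := ⟨z, hz⟩
  set ww : W := ⟨w, hw⟩
  have hn : Nz (∏ i ∈ (Finset.range q).erase 0, σ i (α zz ww)) =
      Nz (∏ i ∈ (Finset.range q).erase 0, σ i ww) := by
    have key : ∀ u : W, ∀ i, Nz (σ i (α zz u)) = Nz (σ i u) := fun u i => by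
      rw [← hNz ⟨d ^ i • z, hZ _ _ hz⟩ (σ i u)]
      congr 1
      exact Subtype.ext (by simp [α, σ, zz, smul_mul', smul_inv'])
    show (∏ z' : Z, α z' _) = ∏ z' : Z, α z' _
    simp only [map_prod]
    rw [Finset.prod_comm, Finset.prod_comm (s := (Finset.univ : Finset Z))]
    exact Finset.prod_congr rfl fun i _ => key ww i
  have hm : (α zz ww / ww) ^ Fintype.card Z ∈ J.subgroupOf W := by
    have := div_mem (hS (α zz ww)) (hS ww)
    rwa [hSeq, hSeq, hn, mul_div_mul_right_eq_div, ← div_pow] at this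
  have hm' : α zz ww / ww ∈ J.subgroupOf W := by
    rw [← Nat.card_eq_fintype_card] at hm
    obtain ⟨k, hk⟩ := exists_pow_eq_self_of_coprime (x := α zz ww / ww)
      (n := Nat.card Z) (hcop.coprime_dvd_right (orderOf_dvd_natCard _))
    rw [← hk]
    exact pow_mem hm k
  rw [div_eq_mul_inv] at hm'
  exact hm'

end Cfsg.Agent.H42.AbelFix
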