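import Cfsg.Agent.H42.AbelFix.Lines
import Cfsg.Agent.Cores.PSolvable
import Cfsg.Agent.Cores.Constrained
import Cfsg.Agent.Coprime.SchurZassenhaus

/-!
In a `{p, r}`-group of the configuration, a Sylow `p`-subgroup times `O_r` is normal.
-/

namespace Cfsg.Agent.H42.AbelFix

open Subgroup
open Cfsg.Agent.Coprime (IsInvariant)

set_option linter.style.haveILetI false

universe w u

/-- All prime divisors of the order are `p` or `r`. -/
def TwoP (p r : ℕ) (G : Type*) : Prop :=
  ∀ s : ℕ, s.Prime → s ∣ Nat.card G → s = p ∨ s = r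

theorem TwoP.symm {p r : ℕ} {G : Type*} (h : TwoP p r G) : TwoP r p G :=
  fun s hs hd => (h s hs hd).symm

variable {G : Type u} [Group G] [Finite G] {p r : ℕ}

theorem TwoP.le (h : TwoP p r G) (H : Subgroup G) : TwoP p r H :=
  fun s hs hd => h s hs (hd.trans (card_subgroup_dvd_card H))

theorem TwoP.quotient (h : TwoP p r G) (N : Subgroup G) : TwoP p r (G ⧸ N) :=
  fun s hs hd => h s hs (hd.trans (card_quotient_dvd_card N))

/-- In a `{p, r}`-group the `p'`-core is the `r`-core. -/
theorem pPrimeCore_eq_bot_of [hp : Fact p.Prime] [hr : Fact r.Prime] (h : TwoP p r G)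
    (hb : pCore r G = ⊥) : pPrimeCore p G = ⊥ := by
  refine le_bot_iff.mp (hb ▸ Cores.le_pCore ?_)
  refine IsPGroup.of_card (n := (Nat.card (pPrimeCore p G)).primeFactorsList.length)
    (Nat.eq_prime_pow_of_unique_prime_dvd Nat.card_pos.ne' fun {s} hs hd => ?_)
  rcases h s hs (hd.trans (card_subgroup_dvd_card _)) with rfl | rfl
  · exact absurd hd (Cores.not_dvd_card_pPrimeCore)
  · rfl

theorem pCore_quotient_pCore (p : ℕ) [Fact p.Prime] : pCore p (G ⧸ pCore p G) = ⊥ := by
  have h : (pCore p (G ⧸ pCore p G)).comap (QuotientGroup.mk' (pCore p G)) ≤ pCore p G := by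
    refine Cores.le_pCore (IsPGroup.comap_of_ker_isPGroup Cores.pCore_isPGroup _ ?_)
    rw [QuotientGroup.ker_mk']
    exact Cores.pCore_isPGroup
  rw [← map_comap_eq_self_of_surjective (QuotientGroup.mk'_surjective (pCore p G))
    (pCore p (G ⧸ pCore p G)), Subgroup.map_eq_bot_iff, QuotientGroup.ker_mk']
  exact h

theorem inf_eq_bot_of_pGroup [Fact p.Prime] [Fact r.Prime] (hpr : p ≠ r) {H K : Subgroup G}
    (hH : IsPGroup p H) (hK : IsPGroup r K) : H ⊓ K = ⊥ :=
  disjoint_iff.mp (IsPGroup.disjoint_of_ne p r hpr H K hH hK)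

theorem normal_le_sylow [Fact p.Prime] {N : Subgroup G} [N.Normal] (hN : IsPGroup p N)
    (P : Sylow p G) : N ≤ (P : Subgroup G) :=
  hN.le_sylow_of_normal P

variable {A : Type w} [Group A] [Finite A]

theorem split_aux {q : ℕ} [Fact p.Prime] [Fact r.Prime] (hpr : p ≠ r) :
    ∀ (n : ℕ) (G : Type u) [Group G] [Finite G] [MulDistribMulAction A G], Nat.card G ≤ n →
      Cfg q A G → Group.IsSolvable G → TwoP p r G → ∀ P : Sylow p G, IsInvariant A (P : Subgroup G) →
      ((P : Subgroup G) ⊔ pCore r G).Normal := by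
  intro n
  induction n with
  | zero => intro G _ _ _ hn; exact absurd hn (Nat.card_pos).not_ge
  | succ n ih =>
  intro G _ _ _ hn hc hsol hG P hP
  haveI := hsol
  have IH : ∀ (N : Subgroup G) [N.Normal] (hN : IsInvariant A N), N ≠ ⊥ →
      ((P : Subgroup G).map (QuotientGroup.mk' N) ⊔ pCore r (G ⧸ N)).Normal := by
    intro N _ hN hne
    letI := qAct N hN
    have hlt : Nat.card (G ⧸ N) < Nat.card G := Hall.card_quotient_lt N hne
    have hP' : IsInvariant A ((P : Subgroup G).map (QuotientGroup.mk' N)) := by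
      rintro a _ ⟨x, hx, rfl⟩
      exact ⟨a • x, hP a x hx, rfl⟩
    exact ih (G ⧸ N) (by omega) (hc.quotient N hN) inferInstance (hG.quotient N)
      (P.mapSurjective (QuotientGroup.mk'_surjective N)) hP'
  set O := pCore r G with hO
  by_cases hOb : O = ⊥
  swap
  · have := IH O (Coprime.isInvariant_of_characteristic _) hOb
    rw [pCore_quotient_pCore, sup_bot_eq] at this
    have h1 := this.comap (QuotientGroup.mk' O)
    rwa [comap_map_eq, QuotientGroup.ker_mk'] at h1
  rw [hOb, sup_bot_eq]
  set T := pCore p G with hT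
  have hTi : IsInvariant A T := Coprime.isInvariant_of_characteristic _
  have hTP : T ≤ (P : Subgroup G) := normal_le_sylow Cores.pCore_isPGroup P
  have hTp : IsPGroup p T := Cores.pCore_isPGroup
  have hCT : centralizer (T : Set G) ≤ T :=
    Cores.centralizer_pCore_le Cores.isPSolvable_of_isSolvable (pPrimeCore_eq_bot_of hG hOb)
  set N := (frattini T).map T.subtype with hN
  have hNi : IsInvariant A N := inv_map_subtype hTi _
  haveI hNn : N.Normal := inferInstance
  have hNT : N ≤ T := map_subtype_le _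
  by_cases hNb : N = ⊥
  swap
  · have hb : pCore r (G ⧸ N) = ⊥ := by
      by_contra hne
      set E := (pCore r (G ⧸ N)).comap (QuotientGroup.mk' N) with hE
      have hTE : T ⊓ E ≤ N := by
        intro x hx
        have h1 : QuotientGroup.mk' N x ∈ T.map (QuotientGroup.mk' N) ⊓ pCore r (G ⧸ N) :=
          ⟨mem_map_of_mem _ hx.1, hx.2⟩
        rw [inf_eq_bot_of_pGroup hpr (hTp.map _) Cores.pCore_isPGroup, mem_bot] at h1
        exact (QuotientGroup.eq_one_iff x).mp h1
      have hdvd : r ∣ Nat.card E := by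
        obtain ⟨k, hk⟩ := IsPGroup.iff_card.mp (Cores.pCore_isPGroup (p := r) (G := G ⧸ N))
        have h1 : r ∣ Nat.card (pCore r (G ⧸ N)) := by
          rw [hk]
          refine dvd_pow_self r fun h0 => hne (Subgroup.card_eq_one.mp ?_)
          rw [hk, h0, pow_zero]
        refine h1.trans ?_
        conv_lhs => rw [← map_comap_eq_self_of_surjective (QuotientGroup.mk'_surjective N)
          (pCore r (G ⧸ N))]
        exact card_map_dvd _ _
      obtain ⟨x, hx⟩ := exists_prime_orderOf_dvd_card' r hdvd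
      have hxr : IsPGroup r (zpowers (x : G)) :=
        IsPGroup.of_card (n := 1) (by rw [Nat.card_zpowers, pow_one, Subgroup.orderOf_coe, hx])
      have hxT : zpowers (x : G) ≤ centralizer (T : Set G) := by
        refine Coprime.le_centralizer_of_frattini ?_ ?_ ?_
        · rw [normalizer_eq_top]; exact le_top
        · obtain ⟨i, hi⟩ := IsPGroup.iff_card.mp (hTp.to_subgroup (frattini T))
          rw [hi, Nat.card_zpowers, Subgroup.orderOf_coe, hx]
          exact Nat.Coprime.pow_right _ ((Nat.coprime_primes Fact.out Fact.out).mpr hpr.symm)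
        · intro a ha k hk
          refine hTE ⟨T.mul_mem ((inferInstance : T.Normal).conj_mem k hk a) (T.inv_mem hk), ?_⟩
          have haE : a ∈ E := (zpowers_le.mpr x.2) ha
          rw [mul_assoc (a * k) a⁻¹, mul_assoc a k]
          refine mul_mem haE ?_
          rw [← mul_assoc]
          exact (inferInstance : E.Normal).conj_mem _ (inv_mem haE) k
      have h1 := hxT.trans hCT
      have h2 : zpowers (x : G) = ⊥ := by
        rw [← inf_eq_right.mpr h1]
        exact inf_eq_bot_of_pGroup hpr hTp hxr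
      rw [zpowers_eq_bot] at h2
      rw [show x = 1 from Subtype.ext h2, orderOf_one] at hx
      exact (Fact.out : r.Prime).one_lt.ne hx
    have := IH N hNi hNb
    rw [hb, sup_bot_eq] at this
    have h1 := this.comap (QuotientGroup.mk' N)
    rwa [comap_map_eq, QuotientGroup.ker_mk', sup_eq_left.mpr (hNT.trans hTP)] at h1
  -- `O_p(G)` is abelian and self-centralizing
  have hTc : ∀ x ∈ T, ∀ y ∈ T, x * y = y * x := by
    intro x hx y hy
    have h1 := PGroups.commutator_le_frattini hTp
      (commutator_mem_commutator (mem_top (⟨x, hx⟩ : T)) (mem_top (⟨y, hy⟩ : T)))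
    rw [(map_eq_bot_iff_of_injective _ T.subtype_injective).mp hNb, mem_bot] at h1
    exact congrArg Subtype.val (commutatorElement_eq_one_iff_mul_comm.mp h1)
  obtain ⟨V, hV⟩ := Coprime.exists_invariant_sylow' (A := A) (G := G) hc.coprime (Or.inl hc.isSolvable) r
  have hVr : IsPGroup r (V : Subgroup G) := V.isPGroup'
  have hcop : (Nat.card (V : Subgroup G)).Coprime (Nat.card T) :=
    IsPGroup.coprime_card_of_ne r p hpr.symm _ _ hVr hTp
  have hVn : (V : Subgroup G) ≤ normalizer (T : Set G) := by rw [normalizer_eq_top]; exact le_top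
  have hf : ∀ v ∈ (V : Subgroup G), (∀ x ∈ T, v * x = x * v) → v = 1 := by
    intro v hv h
    have h1 : v ∈ T ⊓ (V : Subgroup G) :=
      ⟨hCT (mem_centralizer_iff.mpr fun x hx => (h x hx).symm), hv⟩
    rwa [inf_eq_bot_of_pGroup hpr hTp hVr, mem_bot] at h1
  have hVc := comm_of_faithful hc hTi hTc hV hVr.isNilpotent hVn hcop hf
  set π := QuotientGroup.mk' T with hπ
  have hπs : Function.Surjective π := QuotientGroup.mk'_surjective T
  have hb : pCore p (G ⧸ T) = ⊥ := pCore_quotient_pCore p
  have hCS : centralizer (pCore r (G ⧸ T) : Set (G ⧸ T)) ≤ pCore r (G ⧸ T) :=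
    Cores.centralizer_pCore_le Cores.isPSolvable_of_isSolvable
      (pPrimeCore_eq_bot_of (hG.quotient T).symm hb)
  have hSV : pCore r (G ⧸ T) ≤ (V : Subgroup G).map π :=
    normal_le_sylow Cores.pCore_isPGroup (V.mapSurjective hπs)
  have hVS : (V : Subgroup G).map π ≤ pCore r (G ⧸ T) := by
    refine le_trans ?_ hCS
    rintro _ ⟨v, hv, rfl⟩
    refine mem_centralizer_iff.mpr fun s hs => ?_
    obtain ⟨v', hv', rfl⟩ := hSV hs
    rw [← map_mul, ← map_mul, hVc v hv v' hv']
  have hVeq : (V : Subgroup G).map π = pCore r (G ⧸ T) := le_antisymm hVS hSV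
  have hK : (T ⊔ (V : Subgroup G)).Normal := by
    have h1 : ((V : Subgroup G).map π).Normal := by rw [hVeq]; infer_instance
    have := h1.comap π
    rwa [comap_map_eq, hπ, QuotientGroup.ker_mk', sup_comm] at this
  -- the normalizer of `V` in `P` lies in `T`
  set Y := (P : Subgroup G) ⊓ normalizer ((V : Subgroup G) : Set G) with hY
  have hYi : IsInvariant A Y := inv_inf hP hV.normalizer
  have hYV : Y ≤ centralizer ((V : Subgroup G) : Set G) := hc.le_of_pieces hYi fun a ha =>
    piece_centralizes hc hTi hTc hV hVc (inv_inf hYi (hc.inv_fx a)) hVn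
      (by rw [normalizer_eq_top]; exact le_top) (inf_le_left.trans inf_le_right) hcop hf ha inf_le_right
  have hYT : Y ≤ T := by
    intro y hy
    have h1 : π y ∈ (V : Subgroup G).map π := by
      rw [hVeq]
      refine hCS (mem_centralizer_iff.mpr ?_)
      rw [← hVeq]
      rintro _ ⟨v, hv, rfl⟩
      rw [← map_mul, ← map_mul, mem_centralizer_iff.mp (hYV hy) v hv]
    have h2 : π y ∈ (P : Subgroup G).map π ⊓ (V : Subgroup G).map π := ⟨mem_map_of_mem _ hy.1, h1⟩
    rw [inf_eq_bot_of_pGroup hpr (P.isPGroup'.map _) (hVr.map _), mem_bot] at h2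
    exact (QuotientGroup.eq_one_iff y).mp h2
  have hPT : (P : Subgroup G) = T := by
    refine le_antisymm (fun y hy => ?_) hTP
    have hle : (V : Subgroup G).map (MulAut.conj y).toMonoidHom ≤ T ⊔ (V : Subgroup G) := by
      rintro _ ⟨v, hv, rfl⟩
      exact hK.conj_mem v (le_sup_right (a := T) hv) y
    obtain ⟨t, ht, he⟩ := Coprime.exists_conj_of_le_sup hVn hle
      (card_map_of_injective (MulAut.conj y).injective) hcop
      (Or.inl (haveI := hVr.isNilpotent; inferInstance))
    have hn : t⁻¹ * y ∈ Y := by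
      refine ⟨(P : Subgroup G).mul_mem ((P : Subgroup G).inv_mem (hTP ht)) hy, Coprime.mem_normalizer_of_map_conj ?_⟩
      rw [← Coprime.map_conj_map_conj, he, Coprime.map_conj_map_conj, inv_mul_cancel,
        Coprime.map_conj_one]
    have := mul_mem ht (hYT hn)
    rwa [mul_inv_cancel_left] at this
  rw [hPT]
  infer_instance

theorem split {q : ℕ} [Fact p.Prime] [Fact r.Prime] [MulDistribMulAction A G] (hpr : p ≠ r)
    (hc : Cfg q A G) (hsol : Group.IsSolvable G) (hG : TwoP p r G) (P : Sylow p G)
    (hP : IsInvariant A (P : Subgroup G)) : ((P : Subgroup G) ⊔ pCore r G).Normal :=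
  split_aux hpr _ G le_rfl hc hsol hG P hP

end Cfsg.Agent.H42.AbelFix
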