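import Cfsg.Agent.H42.AbelFix.Split
import Cfsg.Agent.Coprime.Hall
import Cfsg.Agent.S0144
import Cfsg.Prelude.Def_OddOrderLocal

/-!
A minimal counterexample: invariant subgroups for a pair of primes.
-/

namespace Cfsg.Agent.H42.AbelFix

open Subgroup SemidirectProduct
open Cfsg.Agent.Coprime (IsInvariant)

set_option linter.style.haveILetI false

/-- A minimal counterexample. -/
structure Min (q : ℕ) (A G : Type*) [Group A] [Group G] [MulDistribMulAction A G] : Prop where
  cfg : Cfg q A G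
  nsol : ¬ Group.IsSolvable G
  solv : ∀ H : Subgroup G, IsInvariant A H → H ≠ ⊤ → Group.IsSolvable H
  simp : ∀ N : Subgroup G, N.Normal → IsInvariant A N → N = ⊥ ∨ N = ⊤

/-- The greatest invariant `p`-subgroup. -/
structure InvMax (A : Type*) {G : Type*} [Group A] [Group G] [MulDistribMulAction A G] (p : ℕ)
    (P : Subgroup G) : Prop where
  isPGroup : IsPGroup p P
  invariant : IsInvariant A P
  le : ∀ U : Subgroup G, IsPGroup p U → IsInvariant A U → U ≤ P

/-- An invariant `{p, r}`-subgroup. -/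
structure IsPR (A : Type*) {G : Type*} [Group A] [Group G] [MulDistribMulAction A G] (p r : ℕ)
    (H : Subgroup G) : Prop where
  invariant : IsInvariant A H
  twoP : TwoP p r H

/-- A maximal invariant `{p, r}`-subgroup. -/
structure IsMaxPR (A : Type*) {G : Type*} [Group A] [Group G] [MulDistribMulAction A G] (p r : ℕ)
    (H : Subgroup G) : Prop where
  pr : IsPR A p r H
  max : ∀ K : Subgroup G, IsPR A p r K → H ≤ K → K ≤ H

/-- `O_p(H)` in the ambient group. -/
def core {G : Type*} [Group G] (p : ℕ) (H : Subgroup G) : Subgroup G := (pCore p H).map H.subtype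

/-- Two subgroups permute. -/
def Perm {G : Type*} [Group G] (P R : Subgroup G) : Prop :=
  ∀ x ∈ P, ∀ y ∈ R, ∃ y' ∈ R, ∃ x' ∈ P, x * y = y' * x'

variable {A G : Type*} [Group A] [Group G] [MulDistribMulAction A G] {q p r : ℕ}

theorem Perm.symm {P R : Subgroup G} (h : Perm P R) : Perm R P := fun y hy x hx => by
  obtain ⟨y', hy', x', hx', e⟩ := h x⁻¹ (inv_mem hx) y⁻¹ (inv_mem hy)
  exact ⟨x'⁻¹, inv_mem hx', y'⁻¹, inv_mem hy', by rw [← mul_inv_rev, ← e, mul_inv_rev, inv_inv, inv_inv]⟩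

theorem IsPR.symm {H : Subgroup G} (h : IsPR A p r H) : IsPR A r p H := ⟨h.invariant, h.twoP.symm⟩

theorem IsMaxPR.symm {H : Subgroup G} (h : IsMaxPR A p r H) : IsMaxPR A r p H :=
  ⟨h.pr.symm, fun K hK => h.max K hK.symm⟩

theorem core_le (H : Subgroup G) : core p H ≤ H := map_subtype_le _

theorem core_isPGroup [Finite G] [Fact p.Prime] (H : Subgroup G) : IsPGroup p (core p H) :=
  Cores.pCore_isPGroup.map _

theorem inv_core {H : Subgroup G} (hH : IsInvariant A H) : IsInvariant A (core p H) :=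
  inv_map_subtype hH _

theorem le_normalizer_core [Finite G] (H : Subgroup G) : H ≤ normalizer (core p H : Set G) :=
  Components.le_normalizer_map_subtype _

theorem le_core [Finite G] [Fact p.Prime] {H N : Subgroup G} (hNH : N ≤ H) (hp : IsPGroup p N)
    (hn : H ≤ normalizer (N : Set G)) : N ≤ core p H := by
  haveI : (N.subgroupOf H).Normal := normal_subgroupOf_of_le_normalizer hn
  have h := Cores.le_pCore (G := H) (N := N.subgroupOf H) (hp.comap_subtype (K := H))
  rw [← map_subgroupOf_eq_of_le hNH]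
  exact map_mono h

variable [Finite A] [Finite G]

theorem exists_invMax (h : Cfg q A G) (p : ℕ) [Fact p.Prime] :
    ∃ P : Sylow p G, InvMax A p (P : Subgroup G) := by
  haveI := h.isSolvable
  obtain ⟨P, hP⟩ := Coprime.exists_invariant_sylow' (A := A) (G := G) h.coprime (Or.inl inferInstance) p
  refine ⟨P, P.isPGroup', hP, fun U hU hUi => ?_⟩
  obtain ⟨Q, hUQ, hQ⟩ := Coprime.exists_invariant_sylow_ge' h.coprime (Or.inl inferInstance) p hU hUi
  obtain ⟨c, hc, he⟩ := Coprime.exists_fixed_conj_sylow h.coprime (Or.inl inferInstance) p Q P hQ hP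
  rw [h.fixed_one c hc, map_one, one_smul] at he
  exact he ▸ hUQ

theorem Min.simple_normalizer (hM : Min q A G) {X : Subgroup G} (hX : IsInvariant A X) (hne : X ≠ ⊥)
    (hs : Group.IsSolvable X) : normalizer (X : Set G) ≠ ⊤ := by
  intro e
  rcases hM.simp X (normalizer_eq_top_iff.mp e) hX with h | h
  · exact hne h
  · rw [h] at hs
    exact hM.nsol (Group.isSolvable_of_surjective (f := (⊤ : Subgroup G).subtype)
      fun g => ⟨⟨g, mem_top g⟩, rfl⟩)

variable [hp : Fact p.Prime] [hr : Fact r.Prime]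

theorem Min.not_twoP (hM : Min q A G) : ¬ TwoP p r G := by
  intro h
  refine hM.nsol (S0144.result p r ((Nat.card G).factorization p)
    (if p = r then 0 else (Nat.card G).factorization r) hp.out hr.out ?_)
  have hn : Nat.card G ≠ 0 := Nat.card_pos.ne'
  conv_lhs => rw [← Nat.prod_factorization_pow_eq_self hn]
  rw [Finsupp.prod_of_support_subset _ (s := {p, r}) (fun s hs => by
    rw [Nat.support_factorization, Nat.mem_primeFactors] at hs
    rcases h s hs.1 hs.2.1 with rfl | rfl <;> simp) _ (fun _ _ => pow_zero _)]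
  split_ifs with he
  · subst he; simp
  · rw [Finset.prod_pair he]

theorem IsPR.ne_top (hM : Min q A G) {H : Subgroup G} (hH : IsPR A p r H) : H ≠ ⊤ := by
  rintro rfl
  exact hM.not_twoP fun s hs hd => hH.twoP s hs (by rwa [card_top])

theorem IsPR.isSolvable (hM : Min q A G) {H : Subgroup G} (hH : IsPR A p r H) : Group.IsSolvable H :=
  hM.solv H hH.invariant (hH.ne_top hM)

theorem exists_maxPR {H : Subgroup G} (hH : IsPR A p r H) :
    ∃ K : Subgroup G, H ≤ K ∧ IsMaxPR A p r K := by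
  obtain ⟨K, ⟨hHK, hK⟩, hmax⟩ := Set.Finite.exists_maximalFor id
    {K : Subgroup G | H ≤ K ∧ IsPR A p r K} (Set.toFinite _) ⟨H, le_rfl, hH⟩
  exact ⟨K, hHK, hK, fun L hL hKL => hmax ⟨hHK.trans hKL, hL⟩ hKL⟩

variable {P R : Subgroup G}

omit [Finite A] hr in
theorem core_le_max (hP : InvMax A p P) {H : Subgroup G} (hH : IsInvariant A H) :
    core p H ≤ P ⊓ H := le_inf (hP.le _ (core_isPGroup H) (inv_core hH)) (core_le H)

omit hr in
theorem exists_sylow_inter (hM : Min q A G) (hP : InvMax A p P) {H : Subgroup G}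
    (hH : IsInvariant A H) :
    letI := act H hH
    ∃ S : Sylow p H, IsInvariant A (S : Subgroup H) ∧ (S : Subgroup H).map H.subtype = P ⊓ H := by
  letI := act H hH
  have hc := hM.cfg.restrict H hH
  haveI := hc.isSolvable
  obtain ⟨S, hS⟩ := Coprime.exists_invariant_sylow' (A := A) (G := H) hc.coprime (Or.inl inferInstance) p
  have hSi : IsInvariant A ((S : Subgroup H).map H.subtype) := by
    rintro a _ ⟨x, hx, rfl⟩
    exact ⟨a • x, hS a x hx, rfl⟩
  have hle : (S : Subgroup H).map H.subtype ≤ P ⊓ H :=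
    le_inf (hP.le _ (S.isPGroup'.map _) hSi) (map_subtype_le _)
  refine ⟨S, hS, le_antisymm hle ?_⟩
  have h := S.is_maximal' (Q := (P ⊓ H).subgroupOf H) ((hP.isPGroup.to_le inf_le_left).comap_subtype (K := H))
    (fun x hx => hle (mem_map_of_mem _ hx))
  rw [← map_subgroupOf_eq_of_le (inf_le_right : P ⊓ H ≤ H), h]

theorem mem_mul (hM : Min q A G) (hpr : p ≠ r) (hP : InvMax A p P) (hR : InvMax A r R) {H : Subgroup G}
    (hH : IsPR A p r H) {h : G} (hh : h ∈ H) : ∃ x ∈ P ⊓ H, ∃ y ∈ R ⊓ H, h = x * y := by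
  obtain ⟨S, -, hS⟩ := exists_sylow_inter hM hP hH.invariant
  obtain ⟨U, -, hU⟩ := exists_sylow_inter hM hR hH.invariant
  have hd : (P ⊓ H) ⊓ (R ⊓ H) = ⊥ :=
    inf_eq_bot_of_pGroup hpr (hP.isPGroup.to_le inf_le_left) (hR.isPGroup.to_le inf_le_left)
  let f : ↥(P ⊓ H : Subgroup G) × ↥(R ⊓ H : Subgroup G) → H :=
    fun x => ⟨(x.1 : G) * x.2, H.mul_mem x.1.2.2 x.2.2.2⟩
  have hf : Function.Injective f := by
    rintro ⟨⟨x, hx⟩, ⟨y, hy⟩⟩ ⟨⟨x', hx'⟩, ⟨y', hy'⟩⟩ he
    have e : x * y = x' * y' := congrArg Subtype.val he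
    have h1 : x'⁻¹ * x ∈ (P ⊓ H) ⊓ (R ⊓ H) := by
      refine ⟨(P ⊓ H).mul_mem ((P ⊓ H).inv_mem hx') hx, ?_⟩
      rw [show x'⁻¹ * x = y' * y⁻¹ by
        rw [eq_mul_inv_iff_mul_eq, mul_assoc, e, inv_mul_cancel_left]]
      exact (R ⊓ H).mul_mem hy' ((R ⊓ H).inv_mem hy)
    rw [hd, mem_bot, inv_mul_eq_one] at h1
    subst h1
    simp only [mul_right_inj] at e
    subst e
    rfl
  have hcard : Nat.card H ∣ Nat.card ↥(P ⊓ H : Subgroup G) * Nat.card ↥(R ⊓ H : Subgroup G) := by
    rw [Nat.dvd_iff_prime_pow_dvd_dvd]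
    intro s k hs hd'
    rcases Nat.eq_zero_or_pos k with rfl | hk
    · simp
    rcases hH.twoP s hs ((dvd_pow_self s hk.ne').trans hd') with rfl | rfl
    · refine Dvd.dvd.mul_right ?_ _
      rw [← hS, card_map_of_injective H.subtype_injective]
      exact S.pow_dvd_card_of_pow_dvd_card hd'
    · refine Dvd.dvd.mul_left ?_ _
      rw [← hU, card_map_of_injective H.subtype_injective]
      exact U.pow_dvd_card_of_pow_dvd_card hd'
  have hle : Nat.card H ≤ Nat.card (↥(P ⊓ H : Subgroup G) × ↥(R ⊓ H : Subgroup G)) := by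
    rw [Nat.card_prod]
    exact Nat.le_of_dvd (mul_pos Nat.card_pos Nat.card_pos) hcard
  obtain ⟨⟨x, y⟩, hxy⟩ := (Nat.bijective_iff_injective_and_card f).mpr
    ⟨hf, le_antisymm (Nat.card_le_card_of_injective f hf) hle⟩ |>.surjective ⟨h, hh⟩
  exact ⟨x, x.2, y, y.2, (congrArg Subtype.val hxy).symm⟩

theorem le_of_parts (hM : Min q A G) (hpr : p ≠ r) (hP : InvMax A p P) (hR : InvMax A r R)
    {H K : Subgroup G} (hH : IsPR A p r H) (h1 : P ⊓ H ≤ K) (h2 : R ⊓ H ≤ K) : H ≤ K := fun h hh => by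
  obtain ⟨x, hx, y, hy, rfl⟩ := mem_mul hM hpr hP hR hH hh
  exact K.mul_mem (h1 hx) (h2 hy)

theorem split_norm (hM : Min q A G) (hpr : p ≠ r) (hP : InvMax A p P) {H : Subgroup G}
    (hH : IsPR A p r H) : H ≤ normalizer (((P ⊓ H) ⊔ core r H : Subgroup G) : Set G) := by
  letI := act H hH.invariant
  obtain ⟨S, hSi, hS⟩ := exists_sylow_inter hM hP hH.invariant
  haveI := split hpr (hM.cfg.restrict H hH.invariant) (hH.isSolvable hM) hH.twoP S hSi
  have := Components.le_normalizer_map_subtype ((S : Subgroup H) ⊔ pCore r H)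
  rwa [Subgroup.map_sup, hS] at this

theorem frat (hM : Min q A G) (hpr : p ≠ r) (hP : InvMax A p P) (hR : InvMax A r R) {H : Subgroup G}
    (hH : IsPR A p r H) {v : G} (hv : v ∈ R ⊓ H) :
    ∃ o ∈ core r H, ∃ n ∈ R ⊓ H ⊓ normalizer ((P ⊓ H : Subgroup G) : Set G), v = o * n := by
  have hQp : IsPGroup p (P ⊓ H : Subgroup G) := hP.isPGroup.to_le inf_le_left
  have hle : (P ⊓ H).map (MulAut.conj v).toMonoidHom ≤ core r H ⊔ (P ⊓ H) := by
    rintro _ ⟨x, hx, rfl⟩
    rw [sup_comm]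
    exact (mem_normalizer_iff.mp (split_norm hM hpr hP hH hv.2) x).mp (le_sup_left (a := P ⊓ H) hx)
  obtain ⟨o, ho, he⟩ := Coprime.exists_conj_of_le_sup
    ((inf_le_right : P ⊓ H ≤ H).trans (le_normalizer_core H)) hle
    (card_map_of_injective (MulAut.conj v).injective)
    (IsPGroup.coprime_card_of_ne p r hpr _ _ hQp (core_isPGroup H))
    (Or.inl (haveI := hQp.isNilpotent; inferInstance))
  have hoR : o ∈ R ⊓ H := ⟨hR.le _ (core_isPGroup H) (inv_core hH.invariant) ho, core_le H ho⟩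
  refine ⟨o, ho, o⁻¹ * v, ⟨(R ⊓ H).mul_mem ((R ⊓ H).inv_mem hoR) hv, Coprime.mem_normalizer_of_map_conj ?_⟩,
    (mul_inv_cancel_left o v).symm⟩
  rw [← Coprime.map_conj_map_conj, he, Coprime.map_conj_map_conj, inv_mul_cancel, Coprime.map_conj_one]

theorem faithful (hM : Min q A G) (hpr : p ≠ r) (hP : InvMax A p P) (hR : InvMax A r R) {H : Subgroup G}
    (hH : IsPR A p r H) : R ⊓ H ⊓ centralizer (core p H : Set G) ≤ core r H := by
  set T := core p H with hT
  set W := R ⊓ H ⊓ centralizer (T : Set G) with hW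
  refine le_core (inf_le_left.trans inf_le_right) (hR.isPGroup.to_le (inf_le_left.trans inf_le_left))
    fun h hh => ?_
  have key : ∀ h ∈ H, ∀ w ∈ W, h * w * h⁻¹ ∈ W := by
    intro h hh w hw
    have hxc : h * w * h⁻¹ ∈ centralizer (T : Set G) :=
      (mem_normalizer_iff.mp (normalizer_le_centralizer' _ (le_normalizer_core H hh)) w).mp hw.2
    have hxE : h * w * h⁻¹ ∈ (R ⊓ H) ⊔ T :=
      (mem_normalizer_iff.mp (split_norm hM hpr.symm hR hH.symm hh) w).mp (le_sup_left (a := R ⊓ H) hw.1)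
    rw [sup_comm] at hxE
    obtain ⟨t, ht, v, hv, e⟩ :=
      (Coprime.mem_sup_iff ((inf_le_right : R ⊓ H ≤ H).trans (le_normalizer_core H))).mp hxE
    obtain ⟨k, hk⟩ := hR.isPGroup ⟨w, hw.1.1⟩
    have hk' : w ^ r ^ k = 1 := congrArg Subtype.val hk
    have hcom : Commute t v := by
      have h1 : t * (t * v) = (t * v) * t := by
        rw [e]; exact mem_centralizer_iff.mp hxc t ht
      rw [mul_assoc t v t] at h1
      exact mul_left_cancel h1
    have hpow : t ^ r ^ k * v ^ r ^ k = 1 := by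
      rw [← hcom.mul_pow, e, conj_pow, hk', mul_one, mul_inv_cancel]
    have hd : T ⊓ (R ⊓ H) = ⊥ :=
      inf_eq_bot_of_pGroup hpr (core_isPGroup H) (hR.isPGroup.to_le inf_le_left)
    have ht1 : t ^ r ^ k = 1 := by
      have : t ^ r ^ k ∈ T ⊓ (R ⊓ H) :=
        ⟨T.pow_mem ht _, by rw [mul_eq_one_iff_eq_inv.mp hpow]; exact (R ⊓ H).inv_mem ((R ⊓ H).pow_mem hv _)⟩
      rwa [hd, mem_bot] at this
    obtain ⟨j, hj⟩ := IsPGroup.iff_orderOf.mp (core_isPGroup (p := p) H) ⟨t, ht⟩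
    rw [← Subgroup.orderOf_coe] at hj
    have ht' : t = 1 := by
      rw [← orderOf_eq_one_iff, hj]
      refine Nat.eq_one_of_dvd_coprimes (Nat.Coprime.pow j k ((Nat.coprime_primes hp.out hr.out).mpr hpr))
        dvd_rfl ?_
      rw [← hj]; exact orderOf_dvd_of_pow_eq_one ht1
    rw [ht', one_mul] at e
    exact ⟨e ▸ hv, hxc⟩
  rw [mem_normalizer_iff]
  refine fun w => ⟨key h hh w, fun hw => ?_⟩
  have := key h⁻¹ (inv_mem hh) _ hw
  simpa [mul_assoc] using this

theorem core_ne_bot (hM : Min q A G) {H : Subgroup G} (hH : IsPR A p r H) (hne : H ≠ ⊥) :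
    core p H ≠ ⊥ ∨ core r H ≠ ⊥ := by
  haveI := hH.isSolvable hM
  haveI : Nontrivial H := (Subgroup.nontrivial_iff_ne_bot H).mpr hne
  by_cases hb : pCore r H = ⊥
  · left
    rw [core, Ne, map_eq_bot_iff_of_injective _ H.subtype_injective]
    exact Cores.pCore_ne_bot_of_pPrimeCore_eq_bot Cores.isPSolvable_of_isSolvable
      (pPrimeCore_eq_bot_of hH.twoP hb)
  · right
    rwa [core, Ne, map_eq_bot_iff_of_injective _ H.subtype_injective]

theorem exists_hall (hM : Min q A G) (hP : InvMax A p P) (hR : InvMax A r R) {L : Subgroup G}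
    (hL : IsInvariant A L) (hne : L ≠ ⊤) :
    ∃ H : Subgroup G, IsPR A p r H ∧ P ⊓ L ≤ H ∧ R ⊓ L ≤ H ∧ H ≤ L := by
  set ι : G →* Coprime.Ext A G := inl
  have hcop : (Nat.card (Coprime.extA : Subgroup (Coprime.Ext A G))).Coprime (Nat.card (L.map ι)) := by
    rw [Coprime.card_extA, Coprime.card_map_inl]
    exact hM.cfg.coprime.coprime_dvd_right (card_subgroup_dvd_card L)
  obtain ⟨H', hH', hAH', hUH'⟩ := Coprime.exists_invariant_hall_ge (π := {s | s = p ∨ s = r})
    (Coprime.extA_le_normalizer_map.mpr hL) hcop (Coprime.isSolvable_map ι (hM.solv L hL hne))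
    (U := (P ⊓ L).map ι) (map_mono inf_le_right)
    (Coprime.extA_le_normalizer_map.mpr (inv_inf hP.invariant hL)) (by
      intro s hs hd
      obtain ⟨k, hk⟩ := IsPGroup.iff_card.mp ((hP.isPGroup.to_le inf_le_left : IsPGroup p (P ⊓ L : Subgroup G)).map ι)
      rw [hk] at hd
      exact Or.inl ((Nat.prime_dvd_prime_iff_eq hs hp.out).mp (hs.dvd_of_dvd_pow hd)))
  obtain ⟨hH'L, hπ, hidx⟩ := hH'
  set H := H'.comap ι with hHdef
  have hmap : H.map ι = H' := map_comap_eq_self (hH'L.trans (map_le_range _ _))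
  have hcard : Nat.card H = Nat.card H' := by rw [← hmap]; exact (Coprime.card_map_inl H).symm
  have hHi : IsInvariant A H := Coprime.extA_le_normalizer_map.mp (hmap.symm ▸ hAH')
  have hHL : H ≤ L := (map_le_map_iff_of_injective inl_injective).mp (hmap.symm ▸ hH'L)
  refine ⟨H, ⟨hHi, fun s hs hd => hπ s hs (hcard ▸ hd)⟩, ?_, ?_, hHL⟩
  · exact fun x hx => hUH' (mem_map_of_mem ι hx)
  obtain ⟨U, -, hU⟩ := exists_sylow_inter hM hR hHi
  obtain ⟨m, hm⟩ := IsPGroup.iff_card.mp (hR.isPGroup.to_le inf_le_left : IsPGroup r (R ⊓ L : Subgroup G))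
  have h1 : r ^ m ∣ Nat.card H := by
    have h2 : r ^ m ∣ Nat.card H * H'.relIndex (L.map ι) := by
      rw [hcard, ← relIndex_bot_left, relIndex_mul_relIndex ⊥ H' (L.map ι) bot_le hH'L, relIndex_bot_left,
        Coprime.card_map_inl, ← hm]
      exact card_dvd_of_le inf_le_right
    exact ((Nat.Coprime.pow_left m ((hr.out.coprime_iff_not_dvd).mpr (hidx r hr.out (Or.inr rfl))))).dvd_of_dvd_mul_right h2
  have h3 : Nat.card (R ⊓ L : Subgroup G) ≤ Nat.card (R ⊓ H : Subgroup G) := by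
    rw [hm, ← hU, card_map_of_injective H.subtype_injective]
    exact Nat.le_of_dvd Nat.card_pos (U.pow_dvd_card_of_pow_dvd_card h1)
  rw [← eq_of_le_of_card_ge (inf_le_inf_left R hHL) h3]
  exact inf_le_right

/-- In a maximal invariant `{p,r}`-subgroup, normalizers of invariant normalized subgroups stay inside. -/
theorem IsMaxPR.norm_le (hM : Min q A G) (hpr : p ≠ r) (hP : InvMax A p P) (hR : InvMax A r R)
    {H X : Subgroup G} (hH : IsMaxPR A p r H) (hX : IsInvariant A X) (hne : X ≠ ⊥)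
    (hs : Group.IsSolvable X) (hHX : H ≤ normalizer (X : Set G)) :
    P ⊓ normalizer (X : Set G) ≤ H ∧ R ⊓ normalizer (X : Set G) ≤ H := by
  obtain ⟨K, hK, h1, h2, -⟩ := exists_hall hM hP hR hX.normalizer (hM.simple_normalizer hX hne hs)
  have hHK : H ≤ K := le_of_parts hM hpr hP hR hH.pr ((inf_le_inf_left P hHX).trans h1)
    ((inf_le_inf_left R hHX).trans h2)
  exact ⟨h1.trans (hH.max K hK hHK), h2.trans (hH.max K hK hHK)⟩

end Cfsg.Agent.H42.AbelFix
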